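import Groth.Agent.Lib.Regular.Serre
import Mathlib.RingTheory.Ideal.UFD
import Mathlib.LinearAlgebra.Determinant
import Mathlib.RingTheory.LocalProperties.Projective
import Mathlib.RingTheory.Polynomial.RationalRoot
import Mathlib.RingTheory.Flat.EquationalCriterion

/-!
Auslander-Buchsbaum: regular local rings are factorial, in particular normal.
-/

universe u

namespace Groth.Agent.Lib.Regular.UFD

open IsLocalRing Groth.Agent.Lib.Regular Groth.Agent.Lib.Regular.PD

variable {R : Type u} [CommRing R]

/-- A projective localization of a module of finite projective dimension is stably free. -/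
theorem stably_free [IsNoetherianRing R] [IsLocalRing R] (S : Submonoid R) (A : Type u) [CommRing A]
    [Algebra R A] [IsLocalization S A] :
    ∀ (n : ℕ) {M N : Type u} [AddCommGroup M] [Module R M] [Module.Finite R M] [AddCommGroup N]
      [Module R N] [Module A N] [IsScalarTower R A N] (g : M →ₗ[R] N) [IsLocalizedModule S g]
      [Module.Projective A N], PDle R M n →
      ∃ a b : ℕ, Nonempty ((N × (Fin a → A)) ≃ₗ[A] (Fin b → A)) := by
  intro n
  induction n with
  | zero =>
    intro M N _ _ _ _ _ _ _ g _ _ h
    have : Module.Projective R M := pdle_zero_iff.mp h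
    have : Module.Free R M := Module.free_of_flat_of_isLocalRing
    have : Module.Free A N := Module.free_of_isLocalizedModule (Rₛ := A) S g
    have : Module.Finite A N := Module.Finite.of_isLocalizedModule S (Rₚ := A) g
    let b := Module.Free.chooseBasis A N
    refine ⟨0, Fintype.card (Module.Free.ChooseBasisIndex A N), ⟨?_⟩⟩
    exact (LinearEquiv.prodUnique).trans (b.equivFun.trans
      (LinearEquiv.funCongrLeft A A (Fintype.equivFin _).symm))
  | succ n ih =>
    intro M N _ _ _ _ _ _ _ g _ _ h
    obtain ⟨k, f, hf⟩ := exists_free_cover (R := R) M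
    have : IsLocalizedModule S (Algebra.linearMap R A) :=
        (isLocalizedModule_iff_isLocalization' S A).mpr inferInstance
    let ι : (Fin k → R) →ₗ[R] (Fin k → A) := .pi fun i => Algebra.linearMap R A ∘ₗ .proj i
    have hι : IsLocalizedModule S ι := inferInstance
    let fA : (Fin k → A) →ₗ[A] N := IsLocalizedModule.mapExtendScalars S ι g A f
    have hfA : Function.Surjective fA := IsLocalizedModule.map_surjective S ι g f hf
    obtain ⟨s, hs⟩ := Module.projective_lifting_property fA LinearMap.id hfA
    let e : (LinearMap.ker fA × N) ≃ₗ[A] (Fin k → A) :=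
      ((Function.Exact.splitSurjectiveEquiv (LinearMap.exact_subtype_ker_map fA)
        Subtype.val_injective ⟨s, hs⟩).1).symm
    have : Module.Projective A (LinearMap.ker fA) :=
      Module.Projective.of_split (e.toLinearMap ∘ₗ LinearMap.inl A _ _)
        (LinearMap.fst A _ _ ∘ₗ e.symm.toLinearMap) (by ext x; simp)
    let g' : LinearMap.ker f →ₗ[R] LinearMap.ker fA := LinearMap.toKerIsLocalized S ι g f
    have : IsLocalizedModule S g' := LinearMap.toKerLocalized_isLocalizedModule A S ι g f
    obtain ⟨a, b, ⟨w⟩⟩ := ih g' ((pdle_succ_iff hf n).mp h)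
    refine ⟨b, a + k, ⟨?_⟩⟩
    exact ((LinearEquiv.refl A N).prodCongr w.symm).trans <|
      (LinearEquiv.prodAssoc A N (LinearMap.ker fA) (Fin a → A)).symm.trans <|
      (((LinearEquiv.prodComm A N (LinearMap.ker fA)).trans e).prodCongr (LinearEquiv.refl A _)).trans <|
      (LinearEquiv.prodComm A _ _).trans <|
      (LinearEquiv.sumArrowLequivProdArrow (Fin a) (Fin k) A A).symm.trans
        (LinearEquiv.funCongrLeft A A finSumFinEquiv.symm)

/-- A stably free ideal of a domain is principal: it is generated by a determinant. -/
theorem isPrincipal_of_stably_free {A : Type u} [CommRing A] [IsDomain A] (P : Ideal A) (a b : ℕ)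
    (e : (P × (Fin a → A)) ≃ₗ[A] (Fin b → A)) : P.IsPrincipal := by
  classical
  rcases eq_or_ne P ⊥ with rfl | hP
  · exact bot_isPrincipal
  let j : (P × (Fin a → A)) →ₗ[A] (Fin (a + 1) → A) :=
    { toFun := fun z => Fin.cons (z.1 : A) z.2
      map_add' := fun z w => by ext i; refine Fin.cases ?_ ?_ i <;> simp
      map_smul' := fun c z => by ext i; refine Fin.cases ?_ ?_ i <;> simp }
  have hj : Function.Injective j := fun z w h => by
    have h' : (Fin.cons (z.1 : A) z.2 : Fin (a + 1) → A) = Fin.cons (w.1 : A) w.2 := h
    obtain ⟨h1, h2⟩ := Fin.cons_inj.mp h'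
    exact Prod.ext (Subtype.ext h1) h2
  obtain ⟨p, hp, hp0⟩ := Submodule.exists_mem_ne_zero_of_ne_bot hP
  let μ : (Fin (a + 1) → A) →ₗ[A] (P × (Fin a → A)) :=
    { toFun := fun v => (v 0 • ⟨p, hp⟩, Fin.tail v)
      map_add' := fun v w => by simp [add_smul, Fin.tail_def]; rfl
      map_smul' := fun c v => by simp [mul_smul, Fin.tail_def]; rfl }
  have hμ : Function.Injective μ := fun v w h => by
    have h1 : v 0 * p = w 0 * p := congrArg (fun z => ((z.1 : P) : A)) h
    have h2 : Fin.tail v = Fin.tail w := congrArg Prod.snd h
    exact funext fun i => Fin.cases (mul_right_cancel₀ hp0 h1) (fun i => congrFun h2 i) i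
  have hb : b = a + 1 := by
    have h1 := card_le_of_injective A (j ∘ₗ e.symm.toLinearMap) (hj.comp e.symm.injective)
    have h2 := card_le_of_injective A (e.toLinearMap ∘ₗ μ) (e.injective.comp hμ)
    simp only [Fintype.card_fin] at h1 h2
    omega
  subst hb
  let L : (Fin (a + 1) → A) →ₗ[A] (Fin (a + 1) → A) := j ∘ₗ e.symm.toLinearMap
  refine ⟨⟨LinearMap.det L, le_antisymm (fun q hq => ?_) ?_⟩⟩
  · let D : Matrix (Fin (a + 1)) (Fin (a + 1)) A := Matrix.diagonal (Fin.cons q fun _ => 1)
    have hD : ∀ v, ∃ w, L w = Matrix.toLin' D v := fun v => by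
      refine ⟨e (⟨q * v 0, P.mul_mem_right _ hq⟩, Fin.tail v), ?_⟩
      show j (e.symm (e _)) = _
      rw [LinearEquiv.symm_apply_apply]
      ext i
      refine Fin.cases ?_ ?_ i
      · simp [j, D, Matrix.toLin'_apply, Matrix.mulVec_diagonal]
      · intro i; simp [j, D, Matrix.toLin'_apply, Matrix.mulVec_diagonal, Fin.tail_def]
    let bas := Pi.basisFun A (Fin (a + 1))
    choose w hw using fun i => hD (bas i)
    let V := bas.constr A w
    have hLV : L ∘ₗ V = Matrix.toLin' D := bas.ext fun i => by
      rw [LinearMap.comp_apply, Module.Basis.constr_basis]; exact hw i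
    have h := congrArg LinearMap.det hLV
    rw [LinearMap.det_comp, LinearMap.det_toLin', Matrix.det_diagonal, Fin.prod_univ_succ] at h
    simp at h
    exact Submodule.mem_span_singleton.mpr ⟨LinearMap.det V, by rw [smul_eq_mul, mul_comm]; exact h⟩
  · rw [Submodule.span_le, Set.singleton_subset_iff, ← LinearMap.det_toMatrix', SetLike.mem_coe,
      Matrix.det_succ_row_zero]
    refine P.sum_mem fun i _ => P.mul_mem_right _ (P.mul_mem_left _ ?_)
    rw [LinearMap.toMatrix'_apply]
    exact ((e.symm (Pi.single i 1)).1).2

lemma isPrincipal_map_of_isLocalization {A B : Type u} [CommRing A] [CommRing B] [IsDomain B]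
    [UniqueFactorizationMonoid B] [Algebra A B] (M : Submonoid A) [IsLocalization M B]
    (P : Ideal A) [P.IsPrime] (hP : P.height = 1) : (P.map (algebraMap A B)).IsPrincipal := by
  by_cases hd : Disjoint (M : Set A) (P : Set A)
  · have := IsLocalization.isPrime_of_isPrime_disjoint M B P ‹_› hd
    refine UniqueFactorizationMonoid.isPrincipal_of_height_eq_one ?_
    rw [← IsLocalization.height_under M, IsLocalization.under_map_of_isPrime_disjoint M B ‹_› hd, hP]
  · rw [show P.map (algebraMap A B) = ⊤ from not_not.mp fun h => hd
      ((IsLocalization.map_algebraMap_ne_top_iff_disjoint M B P).mp h)]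
    exact top_isPrincipal

lemma ufd_aux : ∀ (d : ℕ) (R : Type u) [CommRing R] [IsDomain R] [IsRegularLocalRing R],
    (maximalIdeal R).spanFinrank = d → UniqueFactorizationMonoid R := by
  intro d
  induction d using Nat.strong_induction_on with | _ d ih => ?_
  intro R _ _ _ hd
  rcases Nat.eq_zero_or_pos d with rfl | hpos
  · have hm : maximalIdeal R = ⊥ :=
      (Submodule.spanFinrank_eq_zero_iff_eq_bot (Ideal.fg_of_isNoetherianRing _)).mp hd
    refine UniqueFactorizationMonoid.of_forall_isPrincipal_of_height_eq_one fun p hp _ => ?_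
    have hp0 : p = ⊥ := le_bot_iff.mp (hm ▸ le_maximalIdeal hp.ne_top)
    rw [hp0]
    exact bot_isPrincipal
  obtain ⟨x, hxm, hx2⟩ := Serre.exists_notMem_sq (R := R) (by omega)
  have hx0 : x ≠ 0 := fun e => hx2 (e ▸ Ideal.zero_mem _)
  obtain ⟨hreg, -, -⟩ := Quotient.quotient_singleton hxm hx2
  have hxp : Prime x := by
    rw [← Ideal.span_singleton_prime hx0, ← Ideal.Quotient.isDomain_iff_prime]
    exact Quotient.isDomain _
  let A := Localization.Away x
  have hA : IsNoetherianRing A := IsLocalization.isNoetherianRing (Submonoid.powers x) A inferInstance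
  rw [UniqueFactorizationMonoid.iff_localizationAway_of_prime hxp]
  have : IsDomain A := IsLocalization.Away.isDomain A hx0
  refine UniqueFactorizationMonoid.of_forall_isPrincipal_of_height_eq_one fun P hP hP1 => ?_
  let p := P.comap (algebraMap R A)
  have hp : p.map (algebraMap R A) = P := IsLocalization.map_under (Submonoid.powers x) A P
  have hloc : ∀ (I : Ideal A) (_ : I.IsMaximal), Module.Projective (Localization.AtPrime I)
      (LocalizedModule I.primeCompl P) := by
    intro I hI
    set B := Localization.AtPrime I
    let q := I.comap (algebraMap R A)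
    have hqm : q ≠ maximalIdeal R := by
      intro he
      have hxI : algebraMap R A x ∈ I := show x ∈ q from he.symm ▸ hxm
      exact hI.ne_top (Ideal.eq_top_of_isUnit_mem I hxI (IsLocalization.Away.algebraMap_isUnit x))
    have : IsLocalization.AtPrime B q :=
      IsLocalization.isLocalization_isLocalization_atPrime_isLocalization (Submonoid.powers x) B I
    have : IsRegularLocalRing B := Serre.isRegularLocalRing_of_isLocalization q B
    have : IsDomain B := Quotient.isDomain B
    have : UniqueFactorizationMonoid B := by
      refine ih _ ?_ B rfl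
      have h1 := IsRegularLocalRing.spanFinrank_maximalIdeal (R := B)
      have h2 := IsRegularLocalRing.spanFinrank_maximalIdeal (R := R)
      rw [IsLocalization.AtPrime.ringKrullDim_eq_height q B] at h1
      rw [← maximalIdeal_height_eq_ringKrullDim, hd] at h2
      have h3 : q.height < (maximalIdeal R).height :=
        Ideal.height_strict_mono_of_isPrime (lt_of_le_of_ne (le_maximalIdeal (Ideal.IsPrime.ne_top inferInstance)) hqm)
      have h4 : (((maximalIdeal B).spanFinrank : ℕ∞) : WithBot ℕ∞) < ((d : ℕ∞) : WithBot ℕ∞) := by
        rw [WithBot.coe_natCast, WithBot.coe_natCast, h1, h2]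
        exact WithBot.coe_lt_coe.mpr h3
      exact_mod_cast h4
    obtain ⟨c, hc⟩ := (isPrincipal_map_of_isLocalization (B := B) I.primeCompl P hP1).principal
    have : Module.Projective B (P.localized' B I.primeCompl (Algebra.linearMap A B)) := by
      rw [Ideal.localized'_eq_map, hc]
      rcases eq_or_ne c 0 with rfl | hc0
      · have : Subsingleton (Submodule.span B ({0} : Set B)) := by
          rw [Submodule.span_zero_singleton]; infer_instance
        infer_instance
      · exact Module.Projective.of_equiv (LinearEquiv.toSpanNonzeroSingleton B B c hc0)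
    exact Module.Projective.of_equiv
      (((IsLocalizedModule.linearEquiv I.primeCompl
        (P.toLocalized' B I.primeCompl (Algebra.linearMap A B))
        (LocalizedModule.mkLinearMap I.primeCompl P)).extendScalarsOfIsLocalization I.primeCompl B))
  have : Module.FinitePresentation A P := Module.finitePresentation_of_finite A P
  have : Module.Projective A P := Module.projective_of_localization_maximal hloc
  have hP' : p.localized' A (Submonoid.powers x) (Algebra.linearMap R A) = P := by
    rw [Ideal.localized'_eq_map, hp]
  have : Module.Projective A (p.localized' A (Submonoid.powers x) (Algebra.linearMap R A)) := by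
    rw [hP']; infer_instance
  obtain ⟨a, b, ⟨e⟩⟩ := stably_free (Submonoid.powers x) A _
    (p.toLocalized' A (Submonoid.powers x) (Algebra.linearMap R A)) (Serre.pdle_all (R := R) p)
  exact isPrincipal_of_stably_free P a b
    (((LinearEquiv.ofEq _ _ hP'.symm).prodCongr (LinearEquiv.refl A _)).trans e)

/-- A regular local ring is a unique factorization domain. -/
theorem uniqueFactorizationMonoid (R : Type u) [CommRing R] [IsDomain R] [IsRegularLocalRing R] :
    UniqueFactorizationMonoid R :=
  ufd_aux _ R rfl

/-- A regular local ring is integrally closed. -/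
theorem isIntegrallyClosed (R : Type u) [CommRing R] [IsRegularLocalRing R] : IsIntegrallyClosed R := by
  have := Quotient.isDomain R
  have := uniqueFactorizationMonoid R
  infer_instance

end Groth.Agent.Lib.Regular.UFD
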