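import Mathlib.RingTheory.RegularLocalRing.Defs
import Mathlib.RingTheory.KrullDimension.Regular
import Mathlib.RingTheory.Regular.RegularSequence
import Mathlib.RingTheory.Ideal.Height

/-!
Regular local rings: quotients by part of a minimal generating set, the domain property,
minimal generators form a regular sequence, lifting regularity along a regular element.
-/

namespace Groth.Agent.Lib.Regular.Quotient

open IsLocalRing

variable {R : Type*} [CommRing R]

/-- The Krull dimension of a regular local ring is a natural number. -/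
lemma exists_dim_eq [IsRegularLocalRing R] :
    ∃ d : ℕ, ringKrullDim R = d ∧ (maximalIdeal R).spanFinrank = d :=
  ⟨_, IsRegularLocalRing.spanFinrank_maximalIdeal.symm, rfl⟩

lemma ne_top_of_le_maximalIdeal [IsLocalRing R] {I : Ideal R} (h : I ≤ maximalIdeal R) : I ≠ ⊤ :=
  fun e => (maximalIdeal.isMaximal R).ne_top (top_le_iff.mp (e ▸ h))

lemma maximalIdeal_quotient [IsLocalRing R] (I : Ideal R) [IsLocalRing (R ⧸ I)] :
    maximalIdeal (R ⧸ I) = (maximalIdeal R).map (Ideal.Quotient.mk I) :=
  (map_maximalIdeal_of_surjective _ Ideal.Quotient.mk_surjective).symm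

/-- Quotient by part of a system of at most `dim R` generators of the maximal ideal. -/
lemma quotient_of_gens [IsLocalRing R] [IsNoetherianRing R] [DecidableEq R] (s t : Finset R)
    (hst : Ideal.span ((s ∪ t : Finset R) : Set R) = maximalIdeal R)
    (hd : ((s.card + t.card : ℕ) : WithBot ℕ∞) ≤ ringKrullDim R) :
    IsRegularLocalRing (R ⧸ Ideal.span (s : Set R)) ∧
      ringKrullDim (R ⧸ Ideal.span (s : Set R)) = t.card ∧
      ringKrullDim R = (s.card + t.card : ℕ) := by
  set I := Ideal.span (s : Set R) with hI
  have hIm : I ≤ maximalIdeal R := hst ▸ Ideal.span_mono (by simp)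
  have : Nontrivial (R ⧸ I) := Ideal.Quotient.nontrivial_iff.mpr (ne_top_of_le_maximalIdeal hIm)
  have : IsLocalRing (R ⧸ I) :=
    IsLocalRing.of_surjective' (Ideal.Quotient.mk I) Ideal.Quotient.mk_surjective
  have h1 : ringKrullDim R ≤ ringKrullDim (R ⧸ I) + s.card :=
    ringKrullDim_le_ringKrullDim_quotient_add_card s
      (by rw [IsLocalRing.ringJacobson_eq_maximalIdeal]; exact fun x hx => hIm (Ideal.subset_span hx))
  classical
  have h3 : maximalIdeal (R ⧸ I) = Ideal.span ((t.image (Ideal.Quotient.mk I) : Finset _) : Set _) := by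
    rw [maximalIdeal_quotient, ← hst, Finset.coe_union, Ideal.span_union, Ideal.map_sup,
      Finset.coe_image, ← Ideal.map_span, ← hI, Ideal.map_quotient_self, bot_sup_eq]
  have h4 : (maximalIdeal (R ⧸ I)).spanFinrank ≤ t.card := by
    rw [h3]
    refine (Submodule.spanFinrank_span_le_ncard_of_finite (Finset.finite_toSet _)).trans ?_
    rw [Set.ncard_coe_finset]
    exact Finset.card_image_le
  have h5 : ringKrullDim (R ⧸ I) ≤ (maximalIdeal (R ⧸ I)).spanFinrank :=
    ringKrullDim_le_spanFinrank_maximalIdeal (R ⧸ I)
  have h6 : ringKrullDim (R ⧸ I) ≤ t.card := h5.trans (by exact_mod_cast h4)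
  have h7 : (t.card : WithBot ℕ∞) ≤ ringKrullDim (R ⧸ I) := by
    refine (ENat.WithBot.add_le_add_natCast_right_iff (c := s.card)).mp ?_
    refine le_trans ?_ h1
    exact le_trans (le_of_eq (by push_cast; exact add_comm _ _)) hd
  refine ⟨.of_spanFinrank_maximalIdeal_le _ (le_trans (by exact_mod_cast h4) h7),
    le_antisymm h6 h7, le_antisymm ?_ hd⟩
  refine h1.trans (le_trans (add_le_add h6 le_rfl) (le_of_eq ?_))
  push_cast
  exact add_comm _ _

/-- An element outside the square of the maximal ideal is part of a minimal generating set. -/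
lemma exists_gens_of_notMem_sq [IsLocalRing R] [IsNoetherianRing R] [DecidableEq R] {x : R}
    (hx : x ∈ maximalIdeal R) (hx2 : x ∉ maximalIdeal R ^ 2) :
    ∃ t : Finset R, Ideal.span (({x} ∪ t : Finset R) : Set R) = maximalIdeal R ∧
      1 + t.card = (maximalIdeal R).spanFinrank := by
  classical
  set m := maximalIdeal R
  let v : CotangentSpace R := m.toCotangent ⟨x, hx⟩
  have hv : v ≠ 0 := fun h => hx2 ((Ideal.toCotangent_eq_zero m ⟨x, hx⟩).mp h)
  have hli : LinearIndepOn (ResidueField R) id ({v} : Set (CotangentSpace R)) :=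
    LinearIndepOn.singleton hv
  set B := hli.extend (Set.subset_univ _)
  have hvB : v ∈ B := hli.subset_extend _ rfl
  have hB : LinearIndepOn (ResidueField R) id B := hli.linearIndepOn_extend _
  have hBfin : B.Finite := hB.setFinite
  have hsp : Submodule.span (ResidueField R) B = ⊤ := by
    exact (hli.span_extend_eq_span (Set.subset_univ _)).trans Submodule.span_univ
  have hcard : B.ncard = Module.finrank (ResidueField R) (CotangentSpace R) := by
    have h := finrank_span_finset_eq_card (R := ResidueField R) (s := hBfin.toFinset) (by rw [Set.Finite.coe_toFinset]; exact hB)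
    rw [Set.Finite.coe_toFinset, hsp, finrank_top] at h
    rw [h, Set.ncard_eq_toFinset_card _ hBfin]
  choose l hl using m.toCotangent_surjective
  let T : Finset (CotangentSpace R) := hBfin.toFinset.erase v
  refine ⟨T.image (fun w => (l w : R)), ?_, ?_⟩
  · let S : Set m := insert ⟨x, hx⟩ (l '' (T : Set (CotangentSpace R)))
    have himg : m.toCotangent '' S = B := by
      rw [Set.image_insert_eq, Set.image_image]
      simp only [hl, Set.image_id', T, Finset.coe_erase, Set.Finite.coe_toFinset]
      exact Set.insert_sdiff_self_of_mem hvB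
    have hS : Submodule.span R S = ⊤ :=
      CotangentSpace.span_image_eq_top_iff.mp (by rw [himg]; exact hsp)
    have := congrArg (Submodule.map m.subtype) hS
    rw [Submodule.map_span, Submodule.map_subtype_top] at this
    refine Eq.trans ?_ this
    simp [S, Set.image_insert_eq, Set.image_image, Ideal.span]
  · rw [spanFinrank_maximalIdeal_eq_finrank_cotangentSpace, ← hcard,
      Set.ncard_eq_toFinset_card _ hBfin, Finset.card_image_of_injective _
        (fun a b h => by rw [← hl a, ← hl b, Subtype.ext h])]
    rw [add_comm]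
    exact Finset.card_erase_add_one (hBfin.mem_toFinset.mpr hvB)

/-- The quotient of a regular local ring by an element of `m \ m²` is regular, of dimension one
less. -/
lemma quotient_singleton [IsRegularLocalRing R] {x : R}
    (hx : x ∈ maximalIdeal R) (hx2 : x ∉ maximalIdeal R ^ 2) :
    IsRegularLocalRing (R ⧸ Ideal.span {x}) ∧
      ringKrullDim (R ⧸ Ideal.span {x}) + 1 = ringKrullDim R ∧
      (maximalIdeal R).spanFinrank ≠ 0 := by
  classical
  obtain ⟨t, ht, hc⟩ := exists_gens_of_notMem_sq hx hx2
  obtain ⟨h1, h2, h3⟩ := quotient_of_gens {x} t ht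
    (by rw [Finset.card_singleton, hc, IsRegularLocalRing.spanFinrank_maximalIdeal])
  rw [Finset.coe_singleton] at h1 h2
  refine ⟨h1, ?_, by omega⟩
  rw [h2, h3]
  simp [add_comm]

lemma isDomain_aux : ∀ (d : ℕ) (A : Type*) [CommRing A] [IsRegularLocalRing A],
    (maximalIdeal A).spanFinrank = d → IsDomain A := by
  intro d
  induction d with
  | zero =>
    intro A _ _ h
    rw [Submodule.spanFinrank_eq_zero_iff_eq_bot (Ideal.fg_of_isNoetherianRing _)] at h
    exact (IsLocalRing.isField_iff_maximalIdeal_eq.mpr h).isDomain
  | succ d ih =>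
    intro A _ _ h
    set m := maximalIdeal A
    have hdim : ringKrullDim A = ((d + 1 : ℕ) : WithBot ℕ∞) := by
      rw [← IsRegularLocalRing.spanFinrank_maximalIdeal (R := A), h]
    have h' := h
    have hnm : ∀ p ∈ minimalPrimes A, m ≠ p := by
      intro p hp e
      have : p.IsPrime := Ideal.IsMinimalPrime.isPrime hp
      have h0 : Ideal.height (p : Ideal A) = 0 := Ideal.height_eq_zero_iff.mpr hp
      have h1 := IsLocalRing.maximalIdeal_height_eq_ringKrullDim (R := A)
      rw [show maximalIdeal A = p from e, h0, hdim] at h1
      exact absurd h1 (by norm_cast)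
    have hm2 : ¬ m ≤ m ^ 2 := by
      intro hle
      have hbot : m = ⊥ := Submodule.eq_bot_of_le_smul_of_le_jacobson_bot m m
        (Ideal.fg_of_isNoetherianRing _) (by rwa [smul_eq_mul, ← sq])
        (IsLocalRing.maximalIdeal_le_jacobson _)
      rw [hbot, Submodule.spanFinrank_bot] at h
      omega
    obtain ⟨x, hxm, hx⟩ : ∃ x ∈ m, x ∉ m ^ 2 ∧ ∀ p ∈ minimalPrimes A, x ∉ p := by
      classical
      by_contra! hc
      have hfin := minimalPrimes.finite_of_isNoetherianRing A
      have hsub : (m : Set A) ⊆ ⋃ i ∈ (insert (m ^ 2) hfin.toFinset : Finset (Ideal A)), (i : Set A) := by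
        intro y hy
        simp only [Set.mem_iUnion, Finset.mem_insert, Set.Finite.mem_toFinset, SetLike.mem_coe,
          exists_prop]
        by_cases hy2 : y ∈ m ^ 2
        · exact ⟨_, Or.inl rfl, hy2⟩
        · obtain ⟨p, hp, hyp⟩ := hc y hy hy2
          exact ⟨p, Or.inr hp, hyp⟩
      obtain ⟨i, hi, hle⟩ := (Ideal.subset_union_prime (m ^ 2) (m ^ 2) (by
        intro i hi hne _
        rw [Finset.mem_insert] at hi
        rcases hi with hi | hi
        · exact absurd hi hne
        · exact Ideal.IsMinimalPrime.isPrime (hfin.mem_toFinset.mp hi))).mp hsub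
      rw [Finset.mem_insert] at hi
      rcases hi with hi | hi
      · exact hm2 (hi ▸ hle)
      · have hp := hfin.mem_toFinset.mp hi
        exact hnm i hp (le_antisymm hle (IsLocalRing.le_maximalIdeal
          (Ideal.IsMinimalPrime.isPrime hp).ne_top))
    obtain ⟨hreg, hd, -⟩ := quotient_singleton hxm hx.1
    have hdom : IsDomain (A ⧸ Ideal.span {x}) := ih _ <| by
      have hd' := IsRegularLocalRing.spanFinrank_maximalIdeal (R := A ⧸ Ideal.span {x})
      rw [← hd', hdim] at hd
      norm_cast at hd
      omega
    have hpr : (Ideal.span {x}).IsPrime := Ideal.Quotient.isDomain_iff_prime _ |>.mp hdom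
    obtain ⟨P, hP, hPx⟩ := Ideal.exists_minimalPrimes_le (bot_le (a := Ideal.span {x}))
    have : P.IsPrime := Ideal.IsMinimalPrime.isPrime hP
    have hPbot : P = ⊥ := by
      refine Submodule.eq_bot_of_le_smul_of_le_jacobson_bot m P (Ideal.fg_of_isNoetherianRing _) ?_
        (IsLocalRing.maximalIdeal_le_jacobson _)
      intro y hy
      obtain ⟨z, rfl⟩ := Ideal.mem_span_singleton'.mp (hPx hy)
      have hz : z ∈ P := ((‹P.IsPrime›).mem_or_mem hy).resolve_right (hx.2 P hP)
      rw [mul_comm]
      exact Submodule.smul_mem_smul hxm hz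
    subst hPbot
    have := (Ideal.Quotient.isDomain_iff_prime (⊥ : Ideal A)).mpr this
    exact (RingEquiv.quotientBot A).toMulEquiv.symm.isDomain _

/-- A regular local ring is a domain. -/
theorem isDomain (R : Type*) [CommRing R] [IsRegularLocalRing R] : IsDomain R :=
  isDomain_aux _ R rfl

/-- If `R ⧸ (x)` is regular for a regular element `x` of the maximal ideal, then so is `R`. -/
theorem of_quotient_singleton [IsLocalRing R] [IsNoetherianRing R] {x : R}
    (hx : x ∈ maximalIdeal R) (hreg : IsSMulRegular R x)
    (h : IsRegularLocalRing (R ⧸ Ideal.span {x})) : IsRegularLocalRing R := by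
  classical
  set I := Ideal.span {x}
  obtain ⟨s, hs, hc⟩ : ∃ s : Set (R ⧸ I), Ideal.span s = maximalIdeal (R ⧸ I) ∧
      s.Finite ∧ s.ncard = (maximalIdeal (R ⧸ I)).spanFinrank :=
    ⟨_, Submodule.span_generators _, Submodule.FG.finite_generators (Ideal.fg_of_isNoetherianRing _),
      Submodule.FG.generators_ncard (Ideal.fg_of_isNoetherianRing _)⟩
  choose l hl using Ideal.Quotient.mk_surjective (I := I)
  have hm : maximalIdeal R = Ideal.span ({x} ∪ l '' s) := by
    have h1 : ((Ideal.span (l '' s)).map (Ideal.Quotient.mk I)) = maximalIdeal (R ⧸ I) := by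
      rw [Ideal.map_span, Set.image_image]
      simp [hl, hs]
    rw [maximalIdeal_quotient I] at h1
    have h2 := congrArg (Ideal.comap (Ideal.Quotient.mk I)) h1
    simp only [Ideal.comap_map_of_surjective' _ Ideal.Quotient.mk_surjective,
      Ideal.mk_ker] at h2
    rw [Ideal.span_union]
    have h3 : I ≤ maximalIdeal R := by simpa [I, Ideal.span_le] using hx
    rw [sup_eq_left.mpr h3] at h2
    rw [← h2]
    exact sup_comm _ _
  refine .of_spanFinrank_maximalIdeal_le _ ?_
  rw [hm, ← ringKrullDim_quotient_span_singleton_succ_eq_ringKrullDim hreg hx,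
    ← IsRegularLocalRing.spanFinrank_maximalIdeal (R := R ⧸ I), ← hc.2]
  norm_cast
  refine (Submodule.spanFinrank_span_le_ncard_of_finite ((Set.finite_singleton x).union
    (hc.1.image l))).trans ((Set.ncard_union_le _ _).trans ?_)
  rw [Set.ncard_singleton, add_comm]
  exact add_le_add (Set.ncard_image_le hc.1) le_rfl

/-- A minimal system of generators of the maximal ideal is a regular sequence. -/
theorem isRegular_of_span_eq_maximalIdeal [IsRegularLocalRing R] (rs : List R)
    (hrs : Ideal.ofList rs = maximalIdeal R) (hlen : rs.length = (maximalIdeal R).spanFinrank) :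
    RingTheory.Sequence.IsRegular R rs := by
  classical
  refine ⟨⟨fun i hi => ?_⟩, ?_⟩
  · have hm : Ideal.span (((rs.take i).toFinset ∪ (rs.drop i).toFinset : Finset R) : Set R) =
        maximalIdeal R := by
      rw [← List.toFinset_append, List.take_append_drop, ← hrs, Ideal.ofList]
      congr 1
      simp
    have hcard : (maximalIdeal R).spanFinrank ≤ (rs.take i).toFinset.card + (rs.drop i).toFinset.card := by
      rw [← hm]
      refine (Submodule.spanFinrank_span_le_ncard_of_finite (Finset.finite_toSet _)).trans ?_
      rw [Set.ncard_coe_finset]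
      exact Finset.card_union_le _ _
    have hc1 : (rs.take i).toFinset.card ≤ i :=
      (List.toFinset_card_le _).trans (by simp)
    have hc2 : (rs.drop i).toFinset.card ≤ rs.length - i :=
      (List.toFinset_card_le _).trans (by simp)
    obtain ⟨hreg, -, -⟩ := quotient_of_gens (rs.take i).toFinset (rs.drop i).toFinset hm
      (by rw [← IsRegularLocalRing.spanFinrank_maximalIdeal]; norm_cast; omega)
    rw [show ((rs.take i).toFinset : Set R) = {r | r ∈ rs.take i} from Set.ext (fun r => List.mem_toFinset)] at hreg
    change IsRegularLocalRing (R ⧸ Ideal.ofList (rs.take i)) at hreg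
    have := isDomain (R ⧸ Ideal.ofList (rs.take i))
    have hne : rs[i] ∉ Ideal.ofList (rs.take i) := by
      intro hmem
      have hle : maximalIdeal R ≤
          Ideal.span (((rs.take i).toFinset ∪ (rs.drop (i+1)).toFinset : Finset R) : Set R) := by
        rw [← hrs, Ideal.ofList, Ideal.span_le]
        intro r hr
        have hr' : r ∈ rs.take i ++ (rs[i] :: rs.drop (i+1)) := by
          rw [List.getElem_cons_drop, List.take_append_drop]; exact hr
        simp only [List.mem_append, List.mem_cons] at hr'
        rcases hr' with h | h | h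
        · exact Ideal.subset_span (by simp [h])
        · subst h
          exact Ideal.span_mono (fun r hr => by simp at hr ⊢; exact Or.inl hr) hmem
        · exact Ideal.subset_span (by simp [h])
      have heq : maximalIdeal R =
          Ideal.span (((rs.take i).toFinset ∪ (rs.drop (i+1)).toFinset : Finset R) : Set R) := by
        refine le_antisymm hle (Ideal.span_le.mpr fun r hr => ?_)
        rw [← hrs]
        refine Ideal.subset_span ?_
        simp at hr ⊢
        rcases hr with h | h
        · exact List.mem_of_mem_take h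
        · exact List.mem_of_mem_drop h
      have hb : (maximalIdeal R).spanFinrank < rs.length := by
        rw [heq]
        refine lt_of_le_of_lt ((Submodule.spanFinrank_span_le_ncard_of_finite
          (Finset.finite_toSet _)).trans ((Set.ncard_coe_finset _).trans_le
            (Finset.card_union_le _ _))) ?_
        have h2 : (rs.drop (i+1)).toFinset.card ≤ rs.length - (i+1) :=
          (List.toFinset_card_le _).trans (by simp)
        omega
      omega
    have hsm : Ideal.ofList (rs.take i) • (⊤ : Submodule R R) = Ideal.ofList (rs.take i) := by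
      simp
    intro a b hab
    induction a using Submodule.Quotient.induction_on with | H a => ?_
    induction b using Submodule.Quotient.induction_on with | H b => ?_
    simp only [← Submodule.Quotient.mk_smul, Submodule.Quotient.eq, hsm] at hab ⊢
    rw [smul_eq_mul, smul_eq_mul, ← mul_sub] at hab
    exact ((Ideal.Quotient.isDomain_iff_prime _).mp this).mem_or_mem hab |>.resolve_left hne
  · intro h
    rw [hrs, smul_eq_mul, Ideal.mul_top] at h
    exact (maximalIdeal.isMaximal R).ne_top h.symm

end Groth.Agent.Lib.Regular.Quotient
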