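import Groth.Agent.Lib.Regular.Serre
import Mathlib.RingTheory.Flat.Equalizer
import Mathlib.RingTheory.Flat.FaithfullyFlat.Algebra
import Mathlib.RingTheory.Ideal.GoingDown
import Mathlib.RingTheory.Flat.EquationalCriterion
import Mathlib.RingTheory.DiscreteValuationRing.TFAE

/-!
Regularity along flat local homomorphisms: descent, and ascent when `m` generates the maximal
ideal upstairs.
-/

universe u

namespace Groth.Agent.Lib.Regular.Descent

open IsLocalRing TensorProduct Groth.Agent.Lib.Regular Groth.Agent.Lib.Regular.PD

variable {R : Type u} [CommRing R]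

/-- Projective dimension descends along faithfully flat maps. -/
theorem pdle_descend [IsNoetherianRing R] (S : Type u) [CommRing S] [Algebra R S]
    [Module.FaithfullyFlat R S] :
    ∀ (n : ℕ) {M : Type u} [AddCommGroup M] [Module R M] [Module.Finite R M],
      PDle S (S ⊗[R] M) n → PDle R M n := by
  intro n
  induction n with
  | zero =>
    intro M _ _ _ h
    rw [pdle_zero_iff] at h ⊢
    have : Module.Flat R M := Module.Flat.of_flat_tensorProduct R M S
    have : Module.FinitePresentation R M := Module.finitePresentation_of_finite R M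
    exact Module.Flat.projective_of_finitePresentation
  | succ n ih =>
    intro M _ _ _ h
    obtain ⟨k, f, hf⟩ := exists_free_cover (R := R) M
    refine (pdle_succ_iff hf n).mpr (ih ?_)
    have hfS : Function.Surjective (TensorProduct.AlgebraTensorModule.lTensor S S f) :=
      LinearMap.lTensor_surjective S hf
    exact pdle_of_equiv (LinearMap.tensorKerEquiv S S f).symm ((pdle_succ_iff hfS n).mp h)

/-- Regularity descends along flat local homomorphisms. -/
theorem isRegularLocalRing_of_flat [IsLocalRing R] [IsNoetherianRing R] (S : Type u) [CommRing S]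
    [IsRegularLocalRing S] [Algebra R S] [IsLocalHom (algebraMap R S)] [Module.Flat R S] :
    IsRegularLocalRing R := by
  have : Module.FaithfullyFlat R S := Module.FaithfullyFlat.of_flat_of_isLocalHom
  have : Module.Finite S (S ⊗[R] (R ⧸ maximalIdeal R)) := Module.Finite.base_change R S _
  exact Serre.of_pdle_residue (maximalIdeal S).spanFinrank
    (pdle_descend S _ (Serre.pdle_all (S ⊗[R] (R ⧸ maximalIdeal R))))

variable [IsLocalRing R] [IsNoetherianRing R] (S : Type u) [CommRing S] [IsLocalRing S]
  [IsNoetherianRing S] [Algebra R S] [Module.Flat R S] [IsLocalHom (algebraMap R S)]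

/-- A flat local homomorphism with `mS = n` preserves the dimension. -/
theorem ringKrullDim_eq (hm : (maximalIdeal R).map (algebraMap R S) = maximalIdeal S) :
    ringKrullDim S = ringKrullDim R := by
  have hlies : (maximalIdeal S).LiesOver (maximalIdeal R) :=
    ⟨((IsLocalRing.local_hom_TFAE _).out 0 4 (rfl) (rfl)).mp ‹_› |>.symm⟩
  have h := Ideal.height_eq_height_add_of_liesOver_of_hasGoingDown (maximalIdeal R) (maximalIdeal S)
  rw [hm, Ideal.map_quotient_self] at h
  have hbot : (⊥ : Ideal (S ⧸ maximalIdeal S)).height = 0 :=
    Ideal.height_eq_zero_iff.mpr (by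
      exact ⟨⟨Ideal.isPrime_bot, le_refl _⟩, fun q _ _ => bot_le⟩)
  rw [hbot, add_zero] at h
  rw [← maximalIdeal_height_eq_ringKrullDim, ← maximalIdeal_height_eq_ringKrullDim, h]

/-- A flat local homomorphism with `mS = n` preserves and reflects regularity. -/
theorem isRegularLocalRing_iff (hm : (maximalIdeal R).map (algebraMap R S) = maximalIdeal S) :
    IsRegularLocalRing R ↔ IsRegularLocalRing S := by
  refine ⟨fun h => ?_, fun h => isRegularLocalRing_of_flat S⟩
  refine .of_spanFinrank_maximalIdeal_le _ ?_
  rw [ringKrullDim_eq S hm, ← IsRegularLocalRing.spanFinrank_maximalIdeal (R := R), ← hm]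
  exact_mod_cast Ideal.spanFinrank_map_le_of_fg _ (Ideal.fg_of_isNoetherianRing _)

omit [IsLocalRing R] [IsNoetherianRing R] in
/-- A DVR is the same as a regular local ring of dimension one. -/
theorem isDiscreteValuationRing_iff [IsLocalRing R] [IsNoetherianRing R] :
    (∃ _ : IsDomain R, IsDiscreteValuationRing R) ↔
      IsRegularLocalRing R ∧ ringKrullDim R = 1 := by
  constructor
  · rintro ⟨_, _⟩
    exact ⟨inferInstance, IsPrincipalIdealRing.ringKrullDim_eq_one R
      (IsDiscreteValuationRing.not_isField R)⟩
  · rintro ⟨hreg, hd⟩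
    have := Quotient.isDomain R
    refine ⟨this, ?_⟩
    have h := IsRegularLocalRing.spanFinrank_maximalIdeal (R := R)
    rw [hd] at h
    have h1 : (maximalIdeal R).spanFinrank = 1 := by exact_mod_cast h
    have hnf : ¬ IsField R := fun hf => by
      rw [isField_iff_maximalIdeal_eq.mp hf, Submodule.spanFinrank_bot] at h1
      omega
    exact ((IsDiscreteValuationRing.TFAE R hnf).out 0 4 (rfl) (rfl)).mpr
      ((Submodule.spanFinrank_eq_one_iff _).mp h1).1

end Groth.Agent.Lib.Regular.Descent
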