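import Groth.Agent.Lib.Regular.Descent
import Groth.Agent.Lib.Excellent.CompletionNoetherian
import Mathlib.RingTheory.AdicCompletion.LocalRing
import Mathlib.RingTheory.AdicCompletion.AsTensorProduct

/-!
Dimension and regularity of adic completions of Noetherian local rings along proper ideals.
-/

universe u

namespace Groth.Agent.Lib.Regular.Completion

open IsLocalRing Groth.Agent.Lib.Regular

variable {A : Type u} [CommRing A] [IsLocalRing A] [IsNoetherianRing A] (I : Ideal A)

theorem isMaximal_eq (hI : I ≠ ⊤) (M : Ideal (AdicCompletion I A)) [M.IsMaximal] :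
    M = (maximalIdeal A).map (algebraMap A (AdicCompletion I A)) := by
  have hle : I ≤ maximalIdeal A := le_maximalIdeal hI
  have := AdicCompletion.isAdicComplete_self I (Ideal.fg_of_isNoetherianRing I)
  have hIM : I.map (algebraMap A (AdicCompletion I A)) ≤ M :=
    (IsAdicComplete.le_jacobson_bot _).trans (sInf_le ⟨bot_le, ‹_›⟩)
  have hmax := AdicCompletion.isMaximal_map_of_le I (maximalIdeal A) hle (Ideal.fg_of_isNoetherianRing I)
  refine (hmax.eq_of_le (Ideal.IsMaximal.ne_top ‹_›) ?_).symm
  have hs : Function.Surjective (AdicCompletion.evalOneₐ I).toRingHom :=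
    AdicCompletion.evalOneₐ_surjective I
  have hker : RingHom.ker (AdicCompletion.evalOneₐ I).toRingHom ≤ M :=
    le_of_eq_of_le (AdicCompletion.ker_evalOneₐ_eq_map I (Ideal.fg_of_isNoetherianRing I)) hIM
  have hM' : (M.map (AdicCompletion.evalOneₐ I).toRingHom).IsMaximal :=
    Ideal.IsMaximal.map_of_surjective_of_ker_le hs hker
  have hM'' : (Ideal.comap (Ideal.Quotient.mk I) (M.map (AdicCompletion.evalOneₐ I).toRingHom)).IsMaximal :=
    Ideal.comap_isMaximal_of_surjective _ Ideal.Quotient.mk_surjective
  rw [← IsLocalRing.eq_maximalIdeal hM'', Ideal.map_le_iff_le_comap]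
  intro r hr
  rw [Ideal.mem_comap, ← AdicCompletion.evalOneₐ_comp_algebraMap_eq_mk] at hr
  have h2 : algebraMap A (AdicCompletion I A) r ∈
      (M.map (AdicCompletion.evalOneₐ I).toRingHom).comap (AdicCompletion.evalOneₐ I).toRingHom := hr
  rw [Ideal.comap_map_of_surjective' _ hs, sup_eq_left.mpr hker] at h2
  exact h2

theorem isLocalRing (hI : I ≠ ⊤) : IsLocalRing (AdicCompletion I A) := by
  have := AdicCompletion.isMaximal_map_of_le I (maximalIdeal A) (le_maximalIdeal hI)
    (Ideal.fg_of_isNoetherianRing I)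
  exact IsLocalRing.of_unique_max_ideal ⟨_, this, fun M hM => isMaximal_eq I hI M⟩

theorem map_maximalIdeal (hI : I ≠ ⊤) [IsLocalRing (AdicCompletion I A)] :
    (maximalIdeal A).map (algebraMap A (AdicCompletion I A)) = maximalIdeal (AdicCompletion I A) :=
  (isMaximal_eq I hI _).symm

theorem isLocalHom (hI : I ≠ ⊤) [IsLocalRing (AdicCompletion I A)] :
    IsLocalHom (algebraMap A (AdicCompletion I A)) :=
  ((IsLocalRing.local_hom_TFAE _).out 0 2 (rfl) (rfl)).mpr (map_maximalIdeal I hI).le

theorem ringKrullDim_eq (hI : I ≠ ⊤) : ringKrullDim (AdicCompletion I A) = ringKrullDim A := by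
  have := isLocalRing I hI
  have := isLocalHom I hI
  exact Descent.ringKrullDim_eq _ (map_maximalIdeal I hI)

theorem isRegularLocalRing_iff (hI : I ≠ ⊤) :
    IsRegularLocalRing A ↔ IsRegularLocalRing (AdicCompletion I A) := by
  have := isLocalRing I hI
  have := isLocalHom I hI
  exact Descent.isRegularLocalRing_iff _ (map_maximalIdeal I hI)

end Groth.Agent.Lib.Regular.Completion
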