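import Mathlib.RingTheory.Regular.Free
import Mathlib.RingTheory.Regular.IsSMulRegular
import Mathlib.RingTheory.TensorProduct.IsBaseChangePi
import Mathlib.RingTheory.LocalRing.Module
import Mathlib.Algebra.Category.ModuleCat.Projective
import Mathlib.Algebra.Homology.ShortComplex.ModuleCat
import Mathlib.CategoryTheory.Abelian.Projective.Dimension
import Mathlib.Algebra.Category.ModuleCat.Ext.HasExt
import Mathlib.Algebra.Module.LocalizedModule.Submodule
import Mathlib.RingTheory.LocalProperties.Projective
import Mathlib.Algebra.Module.FinitePresentation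

/-!
Elementary handling of projective dimension of finite modules: syzygy shift, change of rings
along `R → R ⧸ (x)` for a regular `x`, localization.
-/

universe u

namespace Groth.Agent.Lib.Regular.PD

open CategoryTheory Pointwise

variable {R : Type u} [CommRing R]

/-- `M` has projective dimension at most `n`. -/
def PDle (R : Type u) [CommRing R] (M : Type u) [AddCommGroup M] [Module R M] (n : ℕ) : Prop :=
  HasProjectiveDimensionLT (ModuleCat.of R M) (n + 1)

lemma pdle_zero_iff {M : Type u} [AddCommGroup M] [Module R M] :
    PDle R M 0 ↔ Module.Projective R M := by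
  rw [PDle, zero_add, ← projective_iff_hasProjectiveDimensionLT_one, ← IsProjective.iff_projective]

lemma pdle_mono {M : Type u} [AddCommGroup M] [Module R M] {m n : ℕ} (h : PDle R M m)
    (hmn : m ≤ n) : PDle R M n := by
  unfold PDle at h ⊢
  exact hasProjectiveDimensionLT_of_ge (ModuleCat.of R M) (m + 1) (n + 1) (by omega)

lemma pdle_of_equiv {M N : Type u} [AddCommGroup M] [Module R M] [AddCommGroup N] [Module R N]
    (e : M ≃ₗ[R] N) {n : ℕ} (h : PDle R M n) : PDle R N n := by
  unfold PDle at h ⊢
  exact hasProjectiveDimensionLT_of_iso e.toModuleIso (n + 1)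

lemma pdle_of_retract {M N : Type u} [AddCommGroup M] [Module R M] [AddCommGroup N] [Module R N]
    (i : M →ₗ[R] N) (r : N →ₗ[R] M) (hri : r ∘ₗ i = LinearMap.id) {n : ℕ} (h : PDle R N n) :
    PDle R M n := by
  unfold PDle at h ⊢
  refine Retract.hasProjectiveDimensionLT (Y := ModuleCat.of R N) ⟨ModuleCat.ofHom i, ModuleCat.ofHom r, ?_⟩ _
  rw [← ModuleCat.ofHom_comp, hri]
  rfl

lemma pdle_succ_iff {F M : Type u} [AddCommGroup M] [Module R M] [AddCommGroup F] [Module R F]
    [Module.Projective R F] {f : F →ₗ[R] M} (hf : Function.Surjective f) (n : ℕ) :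
    PDle R M (n + 1) ↔ PDle R (LinearMap.ker f) n :=
  (LinearMap.shortExact_shortComplexKer hf).hasProjectiveDimensionLT_X₃_iff n
    ((IsProjective.iff_projective (R := R) F).mp inferInstance)

/-- Finite free presentations, in the universe of the ring. -/
lemma exists_free_cover (M : Type u) [AddCommGroup M] [Module R M] [Module.Finite R M] :
    ∃ (n : ℕ) (f : (Fin n → R) →ₗ[R] M), Function.Surjective f :=
  Module.Finite.exists_fin' R M

section modx

variable {F M : Type u} [AddCommGroup M] [Module R M] [AddCommGroup F] [Module R F] (x : R)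

lemma quotient_surjective : Function.Surjective (algebraMap R (R ⧸ Ideal.span {x})) :=
  Ideal.Quotient.mk_surjective

/-- The reduction of a linear map modulo `x`, linear over `R ⧸ (x)`. -/
noncomputable def redMap (f : F →ₗ[R] M) :
    QuotSMulTop x F →ₗ[R ⧸ Ideal.span {x}] QuotSMulTop x M :=
  (QuotSMulTop.map x f).extendScalarsOfSurjective (quotient_surjective x)

lemma redMap_apply (f : F →ₗ[R] M) (y : QuotSMulTop x F) : redMap x f y = QuotSMulTop.map x f y :=
  rfl

lemma redMap_surjective {f : F →ₗ[R] M} (hf : Function.Surjective f) :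
    Function.Surjective (redMap x f) :=
  fun y => QuotSMulTop.map_surjective x hf y

/-- Reducing a short exact sequence modulo an element regular on the cokernel. -/
noncomputable def redKerEquiv {f : F →ₗ[R] M} (hf : Function.Surjective f)
    (hx : IsSMulRegular M x) :
    QuotSMulTop x (LinearMap.ker f) ≃ₗ[R ⧸ Ideal.span {x}] LinearMap.ker (redMap x f) := by
  have hz : ∀ z, redMap x f (redMap x (LinearMap.ker f).subtype z) = 0 := fun z =>
    (QuotSMulTop.map_exact x (LinearMap.exact_subtype_ker_map f) hf).apply_apply_eq_zero z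
  refine LinearEquiv.ofBijective (LinearMap.codRestrict _ (redMap x (LinearMap.ker f).subtype)
    fun z => LinearMap.mem_ker.mpr (hz z)) ⟨?_, ?_⟩
  · rw [injective_iff_map_eq_zero]
    intro z hzero
    induction z using Submodule.Quotient.induction_on with | H z => ?_
    have h1 : QuotSMulTop.map x (LinearMap.ker f).subtype (Submodule.Quotient.mk z) = 0 :=
      congrArg Subtype.val hzero
    rw [QuotSMulTop.map_apply_mk, Submodule.Quotient.mk_eq_zero,
      Submodule.mem_smul_pointwise_iff_exists] at h1
    obtain ⟨w, -, hw⟩ := h1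
    have hwk : w ∈ LinearMap.ker f := by
      refine LinearMap.mem_ker.mpr (hx.right_eq_zero_of_smul ?_)
      rw [← map_smul, hw]
      exact LinearMap.mem_ker.mp z.2
    rw [Submodule.Quotient.mk_eq_zero, Submodule.mem_smul_pointwise_iff_exists]
    exact ⟨⟨w, hwk⟩, trivial, Subtype.ext hw⟩
  · rintro ⟨y, hy⟩
    obtain ⟨z, hz'⟩ :=
      (QuotSMulTop.map_exact x (LinearMap.exact_subtype_ker_map f) hf y).mp (LinearMap.mem_ker.mp hy)
    exact ⟨z, Subtype.ext hz'⟩

end modx

variable [IsNoetherianRing R] [IsLocalRing R]

/-- Reduction modulo a regular element does not increase the projective dimension. -/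
theorem pdle_red {x : R} (hxR : IsSMulRegular R x) :
    ∀ (n : ℕ) {M : Type u} [AddCommGroup M] [Module R M] [Module.Finite R M],
    IsSMulRegular M x → PDle R M n → PDle (R ⧸ Ideal.span {x}) (QuotSMulTop x M) n := by
  intro n
  induction n with
  | zero =>
    intro M _ _ _ _ h
    rw [pdle_zero_iff] at h ⊢
    have : Module.Free R M := Module.free_of_flat_of_isLocalRing
    exact Module.Projective.of_free
  | succ n ih =>
    intro M _ _ _ hx h
    obtain ⟨k, f, hf⟩ := exists_free_cover (R := R) M
    have hsub : PDle R (LinearMap.ker f) n := (pdle_succ_iff hf n).mp h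
    have hK : IsSMulRegular (LinearMap.ker f) x :=
      IsSMulRegular.submodule _ _ (IsSMulRegular.pi fun _ : Fin k => hxR)
    exact (pdle_succ_iff (redMap_surjective x hf) n).mpr
      (pdle_of_equiv (redKerEquiv x hf hx) (ih hK hsub))

/-- Conversely, the projective dimension can be checked modulo a regular element. -/
theorem pdle_of_red {x : R} (hxR : IsSMulRegular R x) (hxm : x ∈ IsLocalRing.maximalIdeal R) :
    ∀ (n : ℕ) {M : Type u} [AddCommGroup M] [Module R M] [Module.Finite R M],
    IsSMulRegular M x → PDle (R ⧸ Ideal.span {x}) (QuotSMulTop x M) n → PDle R M n := by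
  intro n
  induction n with
  | zero =>
    intro M _ _ _ hx h
    rw [pdle_zero_iff] at h ⊢
    have : Nontrivial (R ⧸ Ideal.span {x}) := Ideal.Quotient.nontrivial_iff.mpr
      (by rw [Ne, Ideal.span_singleton_eq_top]; exact hxm)
    have : IsLocalRing (R ⧸ Ideal.span {x}) :=
      IsLocalRing.of_surjective' (Ideal.Quotient.mk _) Ideal.Quotient.mk_surjective
    have : Module.Finite (R ⧸ Ideal.span {x}) (QuotSMulTop x M) :=
      Module.Finite.of_restrictScalars_finite R _ _
    have : Module.Free (R ⧸ Ideal.span {x}) (QuotSMulTop x M) :=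
      Module.free_of_flat_of_isLocalRing
    have : Module.FinitePresentation R M := Module.finitePresentation_of_finite R M
    have : Module.Free R M :=
      (Module.free_quotSMulTop_iff_free R M ((IsLocalRing.maximalIdeal_le_jacobson _) hxm) hx).mp
        inferInstance
    exact Module.Projective.of_free
  | succ n ih =>
    intro M _ _ _ hx h
    obtain ⟨k, f, hf⟩ := exists_free_cover (R := R) M
    have hK : IsSMulRegular (LinearMap.ker f) x :=
      IsSMulRegular.submodule _ _ (IsSMulRegular.pi fun _ : Fin k => hxR)
    refine (pdle_succ_iff hf n).mpr (ih hK ?_)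
    exact pdle_of_equiv (redKerEquiv x hf hx).symm ((pdle_succ_iff (redMap_surjective x hf) n).mp h)

omit [IsLocalRing R] [IsNoetherianRing R] in
/-- Localization does not increase the projective dimension. -/
theorem pdle_localization (S : Submonoid R) (A : Type u) [CommRing A] [Algebra R A]
    [IsLocalization S A] [IsNoetherianRing R] :
    ∀ (n : ℕ) {M N : Type u} [AddCommGroup M] [Module R M] [Module.Finite R M] [AddCommGroup N]
      [Module R N] [Module A N] [IsScalarTower R A N] (g : M →ₗ[R] N) [IsLocalizedModule S g],
      PDle R M n → PDle A N n := by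
  intro n
  induction n with
  | zero =>
    intro M N _ _ _ _ _ _ _ g _ h
    rw [pdle_zero_iff] at h ⊢
    exact Module.projective_of_isLocalizedModule (Rₛ := A) S g
  | succ n ih =>
    intro M N _ _ _ _ _ _ _ g _ h
    obtain ⟨k, f, hf⟩ := exists_free_cover (R := R) M
    have : IsLocalizedModule S (Algebra.linearMap R A) :=
        (isLocalizedModule_iff_isLocalization' S A).mpr inferInstance
    let ι : (Fin k → R) →ₗ[R] (Fin k → A) :=
      .pi fun i => Algebra.linearMap R A ∘ₗ .proj i
    have hι : IsLocalizedModule S ι := inferInstance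
    let fA : (Fin k → A) →ₗ[A] N := IsLocalizedModule.mapExtendScalars S ι g A f
    have hfA : Function.Surjective fA := IsLocalizedModule.map_surjective S ι g f hf
    refine (pdle_succ_iff hfA n).mpr ?_
    let g' : LinearMap.ker f →ₗ[R] LinearMap.ker fA := LinearMap.toKerIsLocalized S ι g f
    have : IsLocalizedModule S g' := LinearMap.toKerLocalized_isLocalizedModule A S ι g f
    exact ih g' ((pdle_succ_iff hf n).mp h)

end Groth.Agent.Lib.Regular.PD
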