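import Groth.Agent.Lib.Regular.Quotient
import Groth.Agent.Lib.Regular.PD
import Mathlib.Algebra.Module.LocalizedModule.Submodule
import Mathlib.LinearAlgebra.FreeModule.PID
import Mathlib.LinearAlgebra.Dual.Lemmas
import Mathlib.RingTheory.LocalRing.MaximalIdeal.Basic
import Mathlib.RingTheory.Localization.AtPrime.Basic
import Mathlib.RingTheory.Ideal.AssociatedPrime.Basic
import Mathlib.RingTheory.Ideal.AssociatedPrime.Finiteness

/-!
Global dimension of regular local rings, Serre's criterion, localizations of regular local rings.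
-/

universe u

namespace Groth.Agent.Lib.Regular.Serre

open IsLocalRing Pointwise Groth.Agent.Lib.Regular Groth.Agent.Lib.Regular.PD

variable {R : Type u} [CommRing R]

lemma spanFinrank_quotient_lt [IsLocalRing R] [IsNoetherianRing R] {x : R}
    (hx : x ∈ maximalIdeal R) (hx2 : x ∉ maximalIdeal R ^ 2) [IsLocalRing (R ⧸ Ideal.span {x})] :
    (maximalIdeal (R ⧸ Ideal.span {x})).spanFinrank < (maximalIdeal R).spanFinrank := by
  classical
  obtain ⟨t, ht, hc⟩ := Quotient.exists_gens_of_notMem_sq hx hx2
  have h : maximalIdeal (R ⧸ Ideal.span {x}) =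
      Ideal.span ((t.image (Ideal.Quotient.mk (Ideal.span {x})) : Finset _) : Set _) := by
    rw [Quotient.maximalIdeal_quotient, ← ht, Finset.coe_union, Finset.coe_singleton, Ideal.span_union,
      Ideal.map_sup, Finset.coe_image, ← Ideal.map_span, Ideal.map_quotient_self, bot_sup_eq]
  rw [h]
  refine lt_of_le_of_lt ((Submodule.spanFinrank_span_le_ncard_of_finite (Finset.finite_toSet _)).trans
    ((Set.ncard_coe_finset _).trans_le Finset.card_image_le)) ?_
  omega

lemma exists_notMem_sq [IsLocalRing R] [IsNoetherianRing R]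
    (h : (maximalIdeal R).spanFinrank ≠ 0) : ∃ x ∈ maximalIdeal R, x ∉ maximalIdeal R ^ 2 := by
  by_contra! hc
  have hle : maximalIdeal R ≤ maximalIdeal R • maximalIdeal R := by
    intro x hx
    rw [smul_eq_mul, ← sq]
    exact hc x hx
  have := Submodule.eq_bot_of_le_smul_of_le_jacobson_bot (maximalIdeal R) (maximalIdeal R)
    (Ideal.fg_of_isNoetherianRing _) hle (maximalIdeal_le_jacobson _)
  exact h (by rw [this]; exact Submodule.spanFinrank_bot)

lemma pdle_all_aux : ∀ (d : ℕ) (R : Type u) [CommRing R] [IsRegularLocalRing R],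
    (maximalIdeal R).spanFinrank = d →
      ∀ (M : Type u) [AddCommGroup M] [Module R M] [Module.Finite R M], PDle R M d := by
  intro d
  induction d with
  | zero =>
    intro R _ _ h M _ _ _
    have hm : maximalIdeal R = ⊥ :=
      (Submodule.spanFinrank_eq_zero_iff_eq_bot (Ideal.fg_of_isNoetherianRing _)).mp h
    have := Quotient.isDomain R
    have hu : ∀ a : R, a ≠ 0 → IsUnit a := fun a ha => by
      have : a ∉ maximalIdeal R := by rw [hm]; exact ha
      simpa using this
    have : IsPrincipalIdealRing R := ⟨fun I => by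
      rcases eq_or_ne I ⊥ with rfl | hI
      · exact bot_isPrincipal
      · obtain ⟨a, ha, ha0⟩ := Submodule.exists_mem_ne_zero_of_ne_bot hI
        rw [Ideal.eq_top_of_isUnit_mem I ha (hu a ha0)]
        exact top_isPrincipal⟩
    have : Module.IsTorsionFree R M := Module.isTorsionFree_iff_smul_eq_zero.mpr fun a m h => by
      by_cases ha : a = 0
      · exact Or.inl ha
      · exact Or.inr ((hu a ha).smul_eq_zero.mp h)
    rw [pdle_zero_iff]
    exact Module.Projective.of_free
  | succ d ih =>
    intro R _ _ h M _ _ _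
    have := Quotient.isDomain R
    obtain ⟨x, hxm, hx2⟩ := exists_notMem_sq (R := R) (by omega)
    have hx0 : x ≠ 0 := fun e => hx2 (e ▸ Ideal.zero_mem _)
    have hxR : IsSMulRegular R x := fun a b hab => mul_left_cancel₀ hx0 hab
    obtain ⟨hreg, hd, -⟩ := Quotient.quotient_singleton hxm hx2
    obtain ⟨k, f, hf⟩ := exists_free_cover (R := R) M
    have hK : IsSMulRegular (LinearMap.ker f) x :=
      IsSMulRegular.submodule _ _ (IsSMulRegular.pi fun _ : Fin k => hxR)
    refine (pdle_succ_iff hf d).mpr (pdle_of_red hxR hxm d hK ?_)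
    have : Module.Finite (R ⧸ Ideal.span {x}) (QuotSMulTop x (LinearMap.ker f)) :=
      Module.Finite.of_restrictScalars_finite R _ _
    refine ih _ ?_ _
    have h1 := IsRegularLocalRing.spanFinrank_maximalIdeal (R := R)
    rw [← hd, ← IsRegularLocalRing.spanFinrank_maximalIdeal (R := R ⧸ Ideal.span {x}), h] at h1
    norm_cast at h1
    omega

/-- Over a regular local ring every finite module has projective dimension at most `dim R`. -/
theorem pdle_all [IsRegularLocalRing R] (M : Type u) [AddCommGroup M] [Module R M]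
    [Module.Finite R M] : PDle R M (maximalIdeal R).spanFinrank :=
  pdle_all_aux _ R rfl M

/-- A surjection from a finite free module with kernel inside `m F`. -/
lemma exists_minimal_cover [IsLocalRing R] (M : Type u) [AddCommGroup M] [Module R M]
    [Module.Finite R M] : ∃ (n : ℕ) (f : (Fin n → R) →ₗ[R] M), Function.Surjective f ∧
      ∀ c, f c = 0 → ∀ i, c i ∈ maximalIdeal R := by
  classical
  have hfg : (⊤ : Submodule R M).FG := Module.Finite.fg_top
  set G := (⊤ : Submodule R M).generators
  have hGfin : G.Finite := hfg.finite_generators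
  have hsp : Submodule.span R G = ⊤ := Submodule.span_generators _
  have : Fintype G := hGfin.fintype
  let e := (Fintype.equivFin G).symm
  let g : Fin (Fintype.card G) → M := fun i => (e i : M)
  have hrange : Set.range g = G := by
    ext y
    exact ⟨fun ⟨i, hi⟩ => hi ▸ (e i).2, fun hy => ⟨e.symm ⟨y, hy⟩, by simp [g]⟩⟩
  refine ⟨_, Fintype.linearCombination R g, ?_, fun c hc i => ?_⟩
  · rw [← LinearMap.range_eq_top, Fintype.range_linearCombination, hrange, hsp]
  by_contra hni
  have hu : IsUnit (c i) := notMem_maximalIdeal.mp hni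
  rw [Fintype.linearCombination_apply] at hc
  have hle : (⊤ : Submodule R M) ≤ Submodule.span R (G \ {g i}) := by
    rw [← hsp, Submodule.span_le, ← hrange]
    rintro y ⟨j, rfl⟩
    by_cases hj : j = i
    · subst hj
      rw [← Finset.add_sum_erase _ _ (Finset.mem_univ j)] at hc
      have h2 : c j • g j ∈ Submodule.span R (Set.range g \ {g j}) := by
        rw [eq_neg_of_add_eq_zero_left hc]
        refine Submodule.neg_mem _ (Submodule.sum_mem _ fun l hl => Submodule.smul_mem _ _
          (Submodule.subset_span ⟨⟨l, rfl⟩, ?_⟩))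
        intro he
        exact (Finset.mem_erase.mp hl).1 (e.injective (Subtype.ext he))
      exact (Submodule.smul_mem_iff_of_isUnit _ hu).mp h2
    · refine Submodule.subset_span ⟨⟨j, rfl⟩, ?_⟩
      intro he
      exact hj (e.injective (Subtype.ext he))
  have h3 := Submodule.spanFinrank_span_le_ncard_of_finite (R := R) (hGfin.sdiff (t := {g i}))
  rw [top_le_iff.mp hle, ← Submodule.FG.generators_ncard hfg] at h3
  have hG : (⊤ : Submodule R M).generators = G := rfl
  rw [hG] at h3
  have h4 : (G \ {g i}).ncard < G.ncard :=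
    Set.ncard_sdiff_singleton_lt_of_mem (e i).2 hGfin
  omega

/-- If some nonzero element is killed by the maximal ideal, finite modules of finite projective
dimension are free. -/
lemma free_of_socle [IsLocalRing R] [IsNoetherianRing R] {z : R} (hz : z ≠ 0)
    (hann : ∀ r ∈ maximalIdeal R, r * z = 0) :
    ∀ (n : ℕ) (M : Type u) [AddCommGroup M] [Module R M] [Module.Finite R M],
      PDle R M n → Module.Free R M := by
  intro n
  induction n with
  | zero =>
    intro M _ _ _ h
    have : Module.Projective R M := pdle_zero_iff.mp h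
    exact Module.free_of_flat_of_isLocalRing
  | succ n ih =>
    intro M _ _ _ h
    obtain ⟨k, f, hf, hker⟩ := exists_minimal_cover (R := R) M
    have : Module.Free R (LinearMap.ker f) := ih _ ((pdle_succ_iff hf n).mp h)
    let b := Module.Free.chooseBasis R (LinearMap.ker f)
    have hsub : IsEmpty (Module.Free.ChooseBasisIndex R (LinearMap.ker f)) := by
      refine ⟨fun i => hz ?_⟩
      have h0 : z • b i = 0 := by
        refine Subtype.ext (funext fun j => ?_)
        show z * (b i : Fin k → R) j = 0
        rw [mul_comm]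
        exact hann _ (hker _ (b i).2 j)
      have := congrArg (fun w => b.repr w i) h0
      simpa using this
    have : Subsingleton (LinearMap.ker f) := b.repr.toEquiv.subsingleton
    have hinj : Function.Injective f := LinearMap.ker_eq_bot.mp (Submodule.eq_bot_of_subsingleton (p := LinearMap.ker f))
    exact Module.Free.of_equiv (LinearEquiv.ofBijective f ⟨hinj, hf⟩)

lemma of_pdle_residue_aux : ∀ (e : ℕ) (R : Type u) [CommRing R] [IsLocalRing R] [IsNoetherianRing R],
    (maximalIdeal R).spanFinrank = e → ∀ n : ℕ, PDle R (R ⧸ maximalIdeal R) n →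
      IsRegularLocalRing R := by
  intro e
  induction e using Nat.strong_induction_on with | _ e ih => ?_
  intro R _ _ _ he n hn
  rcases Nat.eq_zero_or_pos e with rfl | hpos
  · refine .of_spanFinrank_maximalIdeal_le _ ?_
    rw [he, Nat.cast_zero]
    exact ringKrullDim_nonneg_of_nontrivial
  classical
  set m := maximalIdeal R with hm
  have hass : m ∉ associatedPrimes R R := by
    intro hmem
    obtain ⟨-, z, hz⟩ := (isAssociatedPrime_iff_exists_injective_linearMap m (M := R)).mp hmem
    have hz0 : z 1 ≠ 0 := fun h => by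
      have : (1 : R ⧸ m) = 0 := hz (by rw [h, map_zero])
      exact one_ne_zero this
    have hann : ∀ r ∈ m, r * z 1 = 0 := fun r hr => by
      rw [← smul_eq_mul, ← map_smul, Algebra.smul_def, mul_one, Ideal.Quotient.algebraMap_eq,
        Ideal.Quotient.eq_zero_iff_mem.mpr hr, map_zero]
    have : Module.Free R (R ⧸ m) := free_of_socle hz0 hann n _ hn
    have hbot : m = ⊥ := by
      rw [eq_bot_iff]
      intro r hr
      let b := Module.Free.chooseBasis R (R ⧸ m)
      obtain ⟨i⟩ : Nonempty (Module.Free.ChooseBasisIndex R (R ⧸ m)) := b.index_nonempty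
      have h0 : r • b i = 0 := by
        obtain ⟨y, hy⟩ := Ideal.Quotient.mk_surjective (b i)
        rw [← hy, Algebra.smul_def, Ideal.Quotient.algebraMap_eq, ← map_mul,
          Ideal.Quotient.eq_zero_iff_mem]
        exact m.mul_mem_right y hr
      have := congrArg (fun w => b.repr w i) h0
      simpa using this
    rw [hbot, Submodule.spanFinrank_bot] at he
    omega
  obtain ⟨x, hxm, hx2, hxz⟩ : ∃ x ∈ m, x ∉ m ^ 2 ∧ ∀ P ∈ associatedPrimes R R, x ∉ P := by
    by_contra! hc
    have hfin := associatedPrimes.finite R R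
    have hsub : (m : Set R) ⊆ ⋃ i ∈ (insert (m ^ 2) hfin.toFinset : Finset (Ideal R)), (i : Set R) := by
      intro y hy
      simp only [Set.mem_iUnion, Finset.mem_insert, Set.Finite.mem_toFinset, SetLike.mem_coe,
        exists_prop]
      by_cases hy2 : y ∈ m ^ 2
      · exact ⟨_, Or.inl rfl, hy2⟩
      · obtain ⟨p, hp, hyp⟩ := hc y hy hy2
        exact ⟨p, Or.inr hp, hyp⟩
    obtain ⟨i, hi, hle⟩ := (Ideal.subset_union_prime (m ^ 2) (m ^ 2) (by
      intro i hi hne _
      rw [Finset.mem_insert] at hi
      rcases hi with hi | hi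
      · exact absurd hi hne
      · exact IsAssociatedPrime.isPrime (hfin.mem_toFinset.mp hi))).mp hsub
    rw [Finset.mem_insert] at hi
    rcases hi with hi | hi
    · obtain ⟨x, hx, hx2⟩ := exists_notMem_sq (R := R) (by rw [← hm, he]; omega)
      exact hx2 ((hi ▸ hle) hx)
    · have hp := hfin.mem_toFinset.mp hi
      have := IsAssociatedPrime.isPrime hp
      exact hass (le_antisymm hle (IsLocalRing.le_maximalIdeal this.ne_top) ▸ hp)
  have hxR : IsSMulRegular R x := by
    rw [isSMulRegular_iff_right_eq_zero_of_smul]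
    intro y hy
    by_contra hy0
    obtain ⟨P, hP, hle⟩ := exists_le_isAssociatedPrime_of_isNoetherianRing R y hy0
    refine hxz P hP (hle ?_)
    simpa [LinearMap.mem_ker, LinearMap.toSpanSingleton] using hy
  -- the maximal ideal has finite projective dimension, hence so does `m/xm` over `R ⧸ (x)`
  have hmn : PDle R m n := by
    have hk : LinearMap.ker (Submodule.mkQ m) = m := Submodule.ker_mkQ _
    exact pdle_of_equiv (LinearEquiv.ofEq _ _ hk)
      ((pdle_succ_iff (Submodule.mkQ_surjective m) n).mp (pdle_mono hn (by omega)))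
  have hxM : IsSMulRegular m x := IsSMulRegular.submodule _ _ hxR
  have hred := pdle_red hxR n hxM hmn
  set S := R ⧸ Ideal.span {x}
  have : Nontrivial S := Ideal.Quotient.nontrivial_iff.mpr
    (by rw [Ne, Ideal.span_singleton_eq_top]; exact hxm)
  have : IsLocalRing S :=
    IsLocalRing.of_surjective' (Ideal.Quotient.mk _) Ideal.Quotient.mk_surjective
  refine Quotient.of_quotient_singleton hxm hxR (ih _ (he ▸ spanFinrank_quotient_lt hxm hx2) S rfl n ?_)
  -- `κ` is a direct summand of `m/xm`
  let v : CotangentSpace R := m.toCotangent ⟨x, hxm⟩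
  have hv : v ≠ 0 := fun h => hx2 ((Ideal.toCotangent_eq_zero m ⟨x, hxm⟩).mp h)
  obtain ⟨φ, hφ⟩ : ∃ φ : CotangentSpace R →ₗ[ResidueField R] ResidueField R, φ v = 1 := by
    obtain ⟨φ, hφ⟩ := Module.Projective.exists_dual_ne_zero (ResidueField R) hv
    exact ⟨(φ v)⁻¹ • φ, by rw [LinearMap.smul_apply, smul_eq_mul]; exact inv_mul_cancel₀ hφ⟩
  have hsurjS : Function.Surjective (algebraMap R S) := Ideal.Quotient.mk_surjective
  have hmS : maximalIdeal S = m.map (algebraMap R S) := Quotient.maximalIdeal_quotient _
  let σ : ResidueField R →ₗ[R] S ⧸ maximalIdeal S :=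
    Submodule.liftQ m (((maximalIdeal S).mkQ.restrictScalars R) ∘ₗ Algebra.linearMap R S) (by
      intro r hr
      rw [LinearMap.mem_ker]
      exact (Submodule.Quotient.mk_eq_zero _).mpr (hmS ▸ Ideal.mem_map_of_mem _ hr))
  let p0 : m →ₗ[R] S ⧸ maximalIdeal S := σ ∘ₗ (φ.restrictScalars R) ∘ₗ m.toCotangent
  have hp0 : (x • (⊤ : Submodule R m)) ≤ LinearMap.ker p0 := by
    intro y hy
    obtain ⟨w, -, rfl⟩ := (Submodule.mem_smul_pointwise_iff_exists _ _ _).mp hy
    rw [LinearMap.mem_ker, map_smul]
    obtain ⟨q, hq⟩ := Submodule.Quotient.mk_surjective _ (p0 w)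
    rw [← hq, ← Submodule.Quotient.mk_smul, Submodule.Quotient.mk_eq_zero]
    rw [Algebra.smul_def, hmS]
    exact Ideal.mul_mem_right _ _ (Ideal.mem_map_of_mem _ hxm)
  let proj : QuotSMulTop x m →ₗ[S] S ⧸ maximalIdeal S :=
    (Submodule.liftQ _ p0 hp0).extendScalarsOfSurjective hsurjS
  let xm : QuotSMulTop x m := Submodule.Quotient.mk ⟨x, hxm⟩
  let inj : (S ⧸ maximalIdeal S) →ₗ[S] QuotSMulTop x m :=
    Submodule.liftQ (maximalIdeal S) (LinearMap.toSpanSingleton S _ xm) (by
      intro s hs
      obtain ⟨r, hr, rfl⟩ := (Ideal.mem_map_iff_of_surjective _ hsurjS).mp (hmS ▸ hs)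
      rw [LinearMap.mem_ker, LinearMap.toSpanSingleton_apply, algebraMap_smul,
        ← Submodule.Quotient.mk_smul, Submodule.Quotient.mk_eq_zero,
        Submodule.mem_smul_pointwise_iff_exists]
      exact ⟨⟨r, hr⟩, trivial, Subtype.ext (mul_comm x r)⟩)
  refine pdle_of_retract inj proj ?_ hred
  refine Submodule.linearMap_qext _ (LinearMap.ext_ring ?_)
  show proj ((1 : S) • xm) = Submodule.Quotient.mk 1
  rw [one_smul]
  show σ (φ v) = _
  rw [hφ]
  show Submodule.Quotient.mk (algebraMap R S 1) = _
  rw [map_one]

/-- Serre: a Noetherian local ring with residue field of finite projective dimension is regular. -/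
theorem of_pdle_residue [IsLocalRing R] [IsNoetherianRing R] (n : ℕ)
    (h : PDle R (R ⧸ maximalIdeal R) n) : IsRegularLocalRing R :=
  of_pdle_residue_aux _ R rfl n h

/-- A localization of a regular local ring at a prime is regular. -/
theorem isRegularLocalRing_localization [IsRegularLocalRing R] (p : Ideal R) [p.IsPrime] :
    IsRegularLocalRing (Localization.AtPrime p) := by
  set A := Localization.AtPrime p
  have h := pdle_all (R := R) (R ⧸ p)
  have hm : p.localized' A p.primeCompl (Algebra.linearMap R A) = maximalIdeal A := by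
    rw [Ideal.localized'_eq_map, Localization.AtPrime.map_eq_maximalIdeal]
  refine of_pdle_residue (maximalIdeal R).spanFinrank (pdle_of_equiv (Submodule.quotEquivOfEq _ _ hm) ?_)
  exact pdle_localization p.primeCompl A _
    (p.toLocalizedQuotient' A p.primeCompl (Algebra.linearMap R A)) h

/-- A localization of a regular local ring at a prime, in any model, is regular. -/
theorem isRegularLocalRing_of_isLocalization [IsRegularLocalRing R] (p : Ideal R) [p.IsPrime]
    (A : Type*) [CommRing A] [Algebra R A] [IsLocalization.AtPrime A p] : IsRegularLocalRing A := by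
  have := isRegularLocalRing_localization p
  exact IsRegularLocalRing.of_ringEquiv
    (IsLocalization.algEquiv p.primeCompl (Localization.AtPrime p) A).toRingEquiv

/-- A regular local ring is a regular ring. -/
instance isRegularRing_of_isRegularLocalRing [IsRegularLocalRing R] : IsRegularRing R :=
  isRegularRing_iff.mpr fun p _ => isRegularLocalRing_localization p

end Groth.Agent.Lib.Regular.Serre
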