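import Groth.Agent.Lib.Regular.Serre

/-!
Generators of the maximal ideal adapted to a regular quotient of a regular local ring.
-/

universe u

namespace Groth.Agent.Lib.Regular.Adapted

open IsLocalRing Groth.Agent.Lib.Regular

lemma eq_bot_of_le_sq (R : Type u) [CommRing R] [IsRegularLocalRing R] (I : Ideal R)
    [IsRegularLocalRing (R ⧸ I)] (hI : I ≤ maximalIdeal R ^ 2) :
    I = ⊥ ∧ (maximalIdeal R).spanFinrank = (maximalIdeal (R ⧸ I)).spanFinrank := by
  have hfg : Submodule.FG (maximalIdeal (R ⧸ I)) := Ideal.fg_of_isNoetherianRing _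
  have hfin := Submodule.FG.finite_generators hfg
  choose l hl using Ideal.Quotient.mk_surjective (I := I)
  set G := Submodule.generators (maximalIdeal (R ⧸ I))
  have hspan : maximalIdeal R ≤ Ideal.span (l '' G) ⊔ maximalIdeal R • maximalIdeal R := by
    have h1 : (Ideal.span (l '' G)).map (Ideal.Quotient.mk I) =
        (maximalIdeal R).map (Ideal.Quotient.mk I) := by
      rw [Ideal.map_span, Set.image_image, ← Quotient.maximalIdeal_quotient]
      simp only [hl, Set.image_id']
      exact Submodule.span_generators _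
    have h2 := congrArg (Ideal.comap (Ideal.Quotient.mk I)) h1
    simp only [Ideal.comap_map_of_surjective' _ Ideal.Quotient.mk_surjective, Ideal.mk_ker] at h2
    refine le_trans le_sup_left (h2.symm.le.trans (sup_le_sup_left ?_ _))
    rwa [smul_eq_mul, ← sq]
  have hm : maximalIdeal R ≤ Ideal.span (l '' G) :=
    Submodule.le_of_le_smul_of_le_jacobson_bot (Ideal.fg_of_isNoetherianRing _)
      (maximalIdeal_le_jacobson _) hspan
  have hle : Ideal.span (l '' G) ≤ maximalIdeal R := Ideal.span_le.mpr fun y hy => by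
    obtain ⟨g, hg, rfl⟩ := hy
    by_contra hu
    have h' := (notMem_maximalIdeal.mp hu).map (Ideal.Quotient.mk I)
    rw [hl] at h'
    exact (mem_maximalIdeal _).mp
      ((Submodule.span_generators (maximalIdeal (R ⧸ I))).le (Submodule.subset_span hg)) h'
  have h1 : (maximalIdeal R).spanFinrank ≤ (maximalIdeal (R ⧸ I)).spanFinrank := by
    rw [le_antisymm hm hle, ← Submodule.FG.generators_ncard hfg]
    exact (Submodule.spanFinrank_span_le_ncard_of_finite (hfin.image l)).trans (Set.ncard_image_le hfin)
  have h2 : (maximalIdeal (R ⧸ I)).spanFinrank ≤ (maximalIdeal R).spanFinrank := by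
    rw [Quotient.maximalIdeal_quotient]
    exact Ideal.spanFinrank_map_le_of_fg _ (Ideal.fg_of_isNoetherianRing _)
  refine ⟨?_, le_antisymm h1 h2⟩
  by_contra hne
  obtain ⟨x, hx, hx0⟩ := Submodule.exists_mem_ne_zero_of_ne_bot hne
  have := Quotient.isDomain R
  have h3 := ringKrullDim_quotient_succ_le_of_nonZeroDivisor (mem_nonZeroDivisors_of_ne_zero hx0)
  have h4 : ringKrullDim (R ⧸ I) ≤ ringKrullDim (R ⧸ Ideal.span {x}) :=
    ringKrullDim_le_of_surjective (Ideal.Quotient.factor ((Ideal.span_singleton_le_iff_mem I).mpr hx))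
      (Ideal.Quotient.factor_surjective _)
  have h5 : ringKrullDim (R ⧸ I) + 1 ≤ ringKrullDim R := le_trans (add_le_add h4 le_rfl) h3
  rw [← IsRegularLocalRing.spanFinrank_maximalIdeal (R := R),
    ← IsRegularLocalRing.spanFinrank_maximalIdeal (R := R ⧸ I)] at h5
  norm_cast at h5
  omega

/-- For regular `R` and `R ⧸ I`, the ideal is generated by part of a minimal generating set of
the maximal ideal. -/
theorem exists_adapted : ∀ (d : ℕ) (R : Type u) [CommRing R] [IsRegularLocalRing R],
    (maximalIdeal R).spanFinrank = d → ∀ (I : Ideal R) [IsRegularLocalRing (R ⧸ I)],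
      ∃ s t : List R, Ideal.ofList s = I ∧ Ideal.ofList (s ++ t) = maximalIdeal R ∧
        s.length + t.length = d ∧ t.length = (maximalIdeal (R ⧸ I)).spanFinrank := by
  intro d
  induction d using Nat.strong_induction_on with | _ d ih => ?_
  intro R _ _ hd I _
  classical
  by_cases hI : I ≤ maximalIdeal R ^ 2
  · obtain ⟨hbot, heq⟩ := eq_bot_of_le_sq R I hI
    have hfg : Submodule.FG (maximalIdeal R) := Ideal.fg_of_isNoetherianRing _
    have hfin := Submodule.FG.finite_generators hfg
    refine ⟨[], hfin.toFinset.toList, by rw [Ideal.ofList_nil, hbot], ?_, ?_, ?_⟩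
    · rw [List.nil_append, Ideal.ofList]
      simp only [Finset.mem_toList, Set.Finite.mem_toFinset, Set.setOf_mem_eq]
      exact Submodule.span_generators _
    · rw [List.length_nil, zero_add, Finset.length_toList, ← Set.ncard_eq_toFinset_card _ hfin,
        Submodule.FG.generators_ncard hfg, hd]
    · rw [Finset.length_toList, ← Set.ncard_eq_toFinset_card _ hfin,
        Submodule.FG.generators_ncard hfg, heq]
  · obtain ⟨x, hxI, hx2⟩ := SetLike.not_le_iff_exists.mp hI
    have hIne : I ≠ ⊤ := by
      intro h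
      exact not_subsingleton (R ⧸ I) (Ideal.Quotient.subsingleton_iff.mpr h)
    have hxm : x ∈ maximalIdeal R := le_maximalIdeal hIne hxI
    obtain ⟨hreg, hdim, -⟩ := Quotient.quotient_singleton hxm hx2
    have hle : Ideal.span {x} ≤ I := (Ideal.span_singleton_le_iff_mem I).mpr hxI
    set π := Ideal.Quotient.mk (Ideal.span {x}) with hπ
    let e : ((R ⧸ Ideal.span {x}) ⧸ I.map π) ≃+* R ⧸ I :=
      DoubleQuot.quotQuotEquivQuotOfLE hle
    have : IsRegularLocalRing ((R ⧸ Ideal.span {x}) ⧸ I.map π) :=
      IsRegularLocalRing.of_ringEquiv e.symm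
    obtain ⟨d', hd'⟩ : ∃ d', d = d' + 1 ∧ (maximalIdeal (R ⧸ Ideal.span {x})).spanFinrank = d' := by
      rw [← IsRegularLocalRing.spanFinrank_maximalIdeal (R := R), hd,
        ← IsRegularLocalRing.spanFinrank_maximalIdeal (R := R ⧸ Ideal.span {x})] at hdim
      norm_cast at hdim
      exact ⟨_, hdim.symm, rfl⟩
    obtain ⟨s, t, hs, hst, hlen, ht⟩ := ih d' (by omega) _ hd'.2 (I.map π)
    choose l hl using Ideal.Quotient.mk_surjective (I := Ideal.span {x})
    have key : ∀ (L : List (R ⧸ Ideal.span {x})) (J : Ideal R), Ideal.span {x} ≤ J →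
        Ideal.ofList L = J.map π → Ideal.ofList (x :: L.map l) = J := by
      intro L J hxJ hL
      have h1 : (Ideal.ofList (L.map l)).map π = J.map π := by
        rw [Ideal.map_ofList, List.map_map, ← hL]
        congr 1
        exact (List.map_congr_left fun a _ => hl a).trans (List.map_id L)
      have h2 := congrArg (Ideal.comap π) h1
      simp only [Ideal.comap_map_of_surjective' _ Ideal.Quotient.mk_surjective, hπ, Ideal.mk_ker] at h2
      rw [sup_eq_left.mpr hxJ] at h2
      rw [Ideal.ofList_cons, sup_comm]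
      exact h2
    refine ⟨x :: s.map l, t.map l, key s I hle hs, ?_, ?_, ?_⟩
    · rw [List.cons_append, ← List.map_append]
      refine key _ _ ((Ideal.span_singleton_le_iff_mem _).mpr hxm) ?_
      rw [hst, Quotient.maximalIdeal_quotient]
    · simp only [List.length_cons, List.length_map]
      omega
    · rw [List.length_map, ht, ← map_ringEquiv_maximalIdeal e, Ideal.spanFinrank_map_eq_of_ringEquiv]

end Groth.Agent.Lib.Regular.Adapted
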