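import Groth.Agent.Lib.Regular.Quotient
import Mathlib.LinearAlgebra.Dimension.Constructions

/-!
Elements with linearly independent classes in the cotangent space; fixed loci of linearly
reductive finite symmetries.
-/

universe u

namespace Groth.Agent.Lib.Regular.Indep

open IsLocalRing

/-- Elements with independent cotangent classes extend to a minimal system of generators. -/
theorem exists_gens_extend {R : Type*} [CommRing R] [IsLocalRing R] [IsNoetherianRing R]
    [DecidableEq R] {c : ℕ} (f : Fin c → maximalIdeal R)
    (hf : LinearIndependent (ResidueField R) (fun i => (maximalIdeal R).toCotangent (f i))) :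
    ∃ t : Finset R, Ideal.span ((Finset.univ.image (fun i => (f i : R)) ∪ t : Finset R) : Set R) =
        maximalIdeal R ∧ c + t.card = (maximalIdeal R).spanFinrank := by
  classical
  have hli : LinearIndepOn (ResidueField R) id
      (Set.range fun i => (maximalIdeal R).toCotangent (f i)) := hf.linearIndepOn_id
  set B := hli.extend (Set.subset_univ _)
  have hsub : (Set.range fun i => (maximalIdeal R).toCotangent (f i)) ⊆ B := hli.subset_extend _
  have hB : LinearIndepOn (ResidueField R) id B := hli.linearIndepOn_extend _
  have hBfin : B.Finite := hB.setFinite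
  have hsp : Submodule.span (ResidueField R) B = ⊤ :=
    (hli.span_extend_eq_span (Set.subset_univ _)).trans Submodule.span_univ
  have hcard : B.ncard = Module.finrank (ResidueField R) (CotangentSpace R) := by
    have h := finrank_span_finset_eq_card (R := ResidueField R) (s := hBfin.toFinset)
      (by rw [Set.Finite.coe_toFinset]; exact hB)
    rw [Set.Finite.coe_toFinset, hsp, finrank_top] at h
    rw [h, Set.ncard_eq_toFinset_card _ hBfin]
  choose l hl using (maximalIdeal R).toCotangent_surjective
  let T : Finset (CotangentSpace R) :=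
    hBfin.toFinset \ Finset.univ.image fun i => (maximalIdeal R).toCotangent (f i)
  refine ⟨T.image (fun w => (l w : R)), ?_, ?_⟩
  · let S : Set (maximalIdeal R) := Set.range f ∪ l '' (T : Set (CotangentSpace R))
    have himg : (maximalIdeal R).toCotangent '' S = B := by
      rw [Set.image_union, Set.image_image, ← Set.range_comp]
      simp only [hl, Set.image_id', T, Finset.coe_sdiff, Set.Finite.coe_toFinset, Finset.coe_image,
        Finset.coe_univ, Set.image_univ, Function.comp_def]
      exact Set.union_sdiff_cancel hsub
    have hS : Submodule.span R S = ⊤ :=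
      CotangentSpace.span_image_eq_top_iff.mp (by rw [himg]; exact hsp)
    have := congrArg (Submodule.map (maximalIdeal R).subtype) hS
    rw [Submodule.map_span, Submodule.map_subtype_top] at this
    refine Eq.trans ?_ this
    simp [S, Set.image_union, Set.image_image, ← Set.range_comp, Ideal.span, Function.comp_def]
  · have hinj : Function.Injective fun i => (maximalIdeal R).toCotangent (f i) := hf.injective
    rw [spanFinrank_maximalIdeal_eq_finrank_cotangentSpace, ← hcard,
      Set.ncard_eq_toFinset_card _ hBfin, Finset.card_image_of_injective _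
        (fun a b h => by rw [← hl a, ← hl b, Subtype.ext h]),
      ← Finset.card_sdiff_add_card_eq_card (s := Finset.univ.image fun i => (maximalIdeal R).toCotangent (f i))
        (t := hBfin.toFinset) (fun x hx => by
          simp only [Finset.mem_image, Finset.mem_univ, true_and] at hx
          exact hBfin.mem_toFinset.mpr (hsub (Set.mem_range.mpr hx))),
      Finset.card_image_of_injective _ hinj, Finset.card_univ, Fintype.card_fin]
    exact add_comm _ _

/-- The quotient of a regular local ring by elements with independent cotangent classes is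
regular. -/
theorem quotient_of_indep {R : Type*} [CommRing R] [IsRegularLocalRing R] {c : ℕ}
    (f : Fin c → maximalIdeal R)
    (hf : LinearIndependent (ResidueField R) (fun i => (maximalIdeal R).toCotangent (f i))) :
    IsRegularLocalRing (R ⧸ Ideal.span (Set.range fun i => (f i : R))) ∧
      ringKrullDim (R ⧸ Ideal.span (Set.range fun i => (f i : R))) + c = ringKrullDim R := by
  classical
  obtain ⟨t, ht, hc⟩ := exists_gens_extend f hf
  have hcard : (Finset.univ.image (fun i => (f i : R))).card ≤ c :=
    Finset.card_image_le.trans (by simp)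
  obtain ⟨h1, h2, h3⟩ := Quotient.quotient_of_gens _ t ht (by
    rw [← IsRegularLocalRing.spanFinrank_maximalIdeal (R := R), ← hc]
    exact_mod_cast Nat.add_le_add hcard le_rfl)
  rw [Finset.coe_image, Finset.coe_univ, Set.image_univ] at h1 h2
  refine ⟨h1, ?_⟩
  rw [h2, ← IsRegularLocalRing.spanFinrank_maximalIdeal (R := R), ← hc]
  push_cast
  exact add_comm _ _

variable {k A : Type u} [Field k] [CommRing A] [Algebra k A] [IsLocalRing A]

/-- Elements of `A` are congruent to constants. -/
lemma exists_sub_mem (hres : Function.Surjective (algebraMap k (ResidueField A))) (a : A) :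
    ∃ c : k, a - algebraMap k A c ∈ maximalIdeal A := by
  obtain ⟨c, hc⟩ := hres (residue A a)
  exact ⟨c, by rw [← residue_eq_zero_iff, map_sub, ← hc,
    IsScalarTower.algebraMap_apply k A (ResidueField A)]; exact sub_self _⟩

lemma endo_mem (hres : Function.Surjective (algebraMap k (ResidueField A))) (φ : A →ₐ[k] A)
    {x : A} (hx : x ∈ maximalIdeal A) : φ x ∈ maximalIdeal A := by
  obtain ⟨c, hc⟩ := exists_sub_mem hres (φ x)
  by_cases h0 : c = 0
  · simpa [h0] using hc
  · exfalso
    have hu : IsUnit (x - algebraMap k A c) := by
      by_contra hn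
      have h : algebraMap k A c ∈ maximalIdeal A := by
        simpa using (maximalIdeal A).sub_mem hx ((mem_maximalIdeal _).mpr hn)
      exact (mem_maximalIdeal _).mp h ((isUnit_iff_ne_zero.mpr h0).map _)
    refine (mem_maximalIdeal _).mp hc ?_
    have := hu.map φ
    simpa [map_sub] using this

/-- The ideal of the fixed locus of a finite symmetry of order prime to the characteristic is
generated by elements with independent cotangent classes. -/
theorem exists_fixed_gens [IsNoetherianRing A]
    (hres : Function.Surjective (algebraMap k (ResidueField A)))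
    {ι : Type*} [Fintype ι] (σ : ι → A →ₐ[k] A) (hN : (Fintype.card ι : k) ≠ 0)
    (hinv : ∀ j a, ∑ i, σ i (σ j a) = ∑ i, σ i a) :
    ∃ (c : ℕ) (f : Fin c → maximalIdeal A),
      Ideal.span (Set.range fun i => (f i : A)) = Ideal.span {x | ∃ j a, x = a - σ j a} ∧
        LinearIndependent (ResidueField A) (fun i => (maximalIdeal A).toCotangent (f i)) := by
  classical
  set m := maximalIdeal A
  set X : Set A := {x | ∃ j a, x = a - σ j a}
  set I := Ideal.span X
  have hXm : ∀ x ∈ X, x ∈ m := by
    rintro x ⟨j, a, rfl⟩
    obtain ⟨c, hc⟩ := exists_sub_mem hres a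
    simpa using m.sub_mem hc (endo_mem hres (σ j) hc)
  have hmI : ∀ q ∈ m ^ 2, ∀ j, q - σ j q ∈ m * I := by
    intro q hq j
    rw [sq] at hq
    refine Submodule.mul_induction_on hq (fun x hx y hy => ?_) (fun x y hx hy => ?_)
    · rw [map_mul, show x * y - σ j x * σ j y = y * (x - σ j x) + σ j x * (y - σ j y) by ring]
      exact add_mem (Ideal.mul_mem_mul hy (Ideal.subset_span ⟨j, x, rfl⟩))
        (Ideal.mul_mem_mul (endo_mem hres (σ j) hx) (Ideal.subset_span ⟨j, y, rfl⟩))
    · rw [map_add, add_sub_add_comm]
      exact add_mem hx hy
  let cl : X → CotangentSpace A := fun x => m.toCotangent ⟨x.1, hXm x.1 x.2⟩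
  obtain ⟨b, hb, hbsp, hbli⟩ := exists_linearIndependent (ResidueField A) (Set.range cl)
  have hbfin : b.Finite := LinearIndependent.setFinite hbli
  have : Fintype b := hbfin.fintype
  let e := (Fintype.equivFin b).symm
  choose g hg using fun i : Fin (Fintype.card b) => hb (e i).2
  let f : Fin (Fintype.card b) → m := fun i => ⟨(g i).1, hXm _ (g i).2⟩
  have hfcl : (fun i => m.toCotangent (f i)) = fun i => ((e i : b) : CotangentSpace A) :=
    funext hg
  refine ⟨_, f, le_antisymm (Ideal.span_le.mpr ?_) ?_, ?_⟩
  · rintro _ ⟨i, rfl⟩
    exact Ideal.subset_span (g i).2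
  · set J := Ideal.span (Set.range fun i => (f i : A))
    refine Submodule.le_of_le_smul_of_le_jacobson_bot (I := m) (Ideal.fg_of_isNoetherianRing I)
      (maximalIdeal_le_jacobson _) (Ideal.span_le.mpr fun x hx => ?_)
    have hxc : cl ⟨x, hx⟩ ∈ Submodule.span (ResidueField A) (Set.range fun i => m.toCotangent (f i)) := by
      have : (Set.range fun i => m.toCotangent (f i)) = b := by
        rw [hfcl]
        exact (EquivLike.range_comp Subtype.val e).trans Subtype.range_val
      rw [this, hbsp]
      exact Submodule.subset_span ⟨_, rfl⟩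
    obtain ⟨κ, hκ⟩ := (Submodule.mem_span_range_iff_exists_fun _).mp hxc
    choose ck hck using fun i => hres (κ i)
    set q := x - ∑ i, algebraMap k A (ck i) * (f i : A) with hq
    have hmem : ∑ i, algebraMap k A (ck i) * (f i : A) ∈ m :=
      Ideal.sum_mem _ fun i _ => m.mul_mem_left _ (f i).2
    have hq2 : q ∈ m ^ 2 := by
      rw [hq, ← Ideal.toCotangent_eq (x := (⟨x, hXm x hx⟩ : m)) (y := ⟨_, hmem⟩)]
      refine hκ.symm.trans ?_
      rw [show (⟨_, hmem⟩ : m) = ∑ i, algebraMap k A (ck i) • f i from Subtype.ext (by simp [Algebra.smul_def]),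
        map_sum]
      refine Finset.sum_congr rfl fun i _ => ?_
      rw [map_smul, ← hck i, IsScalarTower.algebraMap_apply k A (ResidueField A), algebraMap_smul]
    have he : ∀ y ∈ X, ∑ i, σ i y = 0 := by
      rintro y ⟨j, a, rfl⟩
      simp only [map_sub, Finset.sum_sub_distrib, hinv, sub_self]
    have heq : ∑ i, σ i q = 0 := by
      simp only [hq, map_sub, map_sum, map_mul, AlgHom.commutes, Finset.sum_sub_distrib]
      rw [he x hx, zero_sub, neg_eq_zero, Finset.sum_comm]
      refine Finset.sum_eq_zero fun i _ => ?_
      rw [← Finset.mul_sum, he _ (g i).2, mul_zero]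
    have hqI : q ∈ m * I := by
      have h1 : ∑ i, (q - σ i q) ∈ m * I := Ideal.sum_mem _ fun i _ => hmI q hq2 i
      rw [Finset.sum_sub_distrib, heq, sub_zero, Finset.sum_const, Finset.card_univ,
        nsmul_eq_mul] at h1
      refine (Ideal.unit_mul_mem_iff_mem _ ?_).mp h1
      rw [← map_natCast (algebraMap k A)]
      exact (isUnit_iff_ne_zero.mpr hN).map _
    rw [show x = (∑ i, algebraMap k A (ck i) * (f i : A)) + q by rw [hq]; ring]
    exact Submodule.add_mem_sup (Ideal.sum_mem _ fun i _ => J.mul_mem_left _
      (Ideal.subset_span ⟨i, rfl⟩)) hqI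
  · show LinearIndependent (ResidueField A) fun i => m.toCotangent (f i)
    rw [hfcl]
    exact hbli.comp e e.injective

end Groth.Agent.Lib.Regular.Indep
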