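import Groth.Agent.Lib.Regular.Quotient
import Groth.Agent.Lib.Regular.Indep
import Mathlib.Algebra.Colimit.Ring
import Mathlib.RingTheory.Localization.AtPrime.Basic

/-! Noetherian direct limits of regular local rings are regular. -/

set_option autoImplicit false
set_option linter.style.haveILetI false

universe u v

namespace Groth.Agent.Lib.Regular.DirectLimit

open IsLocalRing

theorem quotient_regular {R : Type u} [CommRing R] [IsRegularLocalRing R] {y : R}
    (hy : y ∈ maximalIdeal R) (hy2 : y ∉ maximalIdeal R ^ 2) :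
    IsRegularLocalRing (R ⧸ Ideal.span {y}) := by
  have hli : LinearIndependent (ResidueField R)
      (fun _ : Fin 1 => (maximalIdeal R).toCotangent ⟨y, hy⟩) :=
    LinearIndependent.of_subsingleton (0 : Fin 1) (by
      intro h
      exact hy2 ((Ideal.toCotangent_eq_zero _ _).1 h))
  have h := (Indep.quotient_of_indep (fun _ : Fin 1 => (⟨y, hy⟩ : maximalIdeal R)) hli).1
  rw [show Set.range (fun _ : Fin 1 => y) = {y} from Set.range_const] at h
  exact h

theorem regular_of_system : ∀ (d : ℕ) (L : Type u) [CommRing L] [IsLocalRing L] [IsNoetherianRing L],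
    (∃ s : Finset L, s.card ≤ d ∧ Ideal.span (s : Set L) = maximalIdeal L) →
    ∀ (ι : Type v) [Preorder ι] [IsDirectedOrder ι] (R : ι → Type u) [∀ i, CommRing (R i)]
      [∀ i, IsRegularLocalRing (R i)] (f : ∀ i j, i ≤ j → R i →+* R j) (φ : ∀ i, R i →+* L),
      (∀ i, IsLocalHom (φ i)) →
      (∀ i j (h : i ≤ j) (a : R i), φ j (f i j h a) = φ i a) →
      (∀ i j k (h : i ≤ j) (h' : j ≤ k) (a : R i), f j k h' (f i j h a) = f i k (h.trans h') a) →
      (∀ x : L, ∃ i a, φ i a = x) →
      (∀ i a, φ i a = 0 → ∃ j h, f i j h a = 0) →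
      IsRegularLocalRing L := by
  classical
  intro d
  induction d with
  | zero =>
    intro L _ _ _ ⟨s, hs, hsp⟩ ι _ _ R _ _ f φ _ _ _ _ _
    rw [Nat.le_zero, Finset.card_eq_zero] at hs
    subst hs
    refine IsRegularLocalRing.of_spanFinrank_maximalIdeal_le _ ?_
    rw [← hsp, Finset.coe_empty, Ideal.span_empty, Submodule.spanFinrank_bot]
    exact_mod_cast ringKrullDim_nonneg_of_nontrivial
  | succ d ih =>
    intro L _ _ _ ⟨s, hs, hsp⟩ ι _ _ R _ _ f φ hloc hφ hf hsurj hker
    by_cases hall : ∀ x ∈ s, x ∈ maximalIdeal L ^ 2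
    · have h0 : maximalIdeal L = ⊥ := by
        refine Submodule.eq_bot_of_le_smul_of_le_jacobson_bot (maximalIdeal L) (maximalIdeal L)
          (IsNoetherian.noetherian _) ?_ (maximalIdeal_le_jacobson _)
        rw [smul_eq_mul, ← pow_two]
        conv_lhs => rw [← hsp]
        exact Ideal.span_le.2 hall
      exact ih L ⟨∅, Nat.zero_le _, by simp [h0]⟩ ι R f φ hloc hφ hf hsurj hker
    push Not at hall
    obtain ⟨x, hxs, hx2⟩ := hall
    have hxm : x ∈ maximalIdeal L := hsp ▸ Ideal.subset_span hxs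
    obtain ⟨i₀, y, hy⟩ := hsurj x
    let y' : ∀ j : Set.Ici i₀, R j := fun j => f i₀ j j.2 y
    have hy' : ∀ j : Set.Ici i₀, φ j.1 (y' j) = x := fun j => (hφ _ _ _ _).trans hy
    have hym : ∀ j : Set.Ici i₀, y' j ∈ maximalIdeal (R j.1) ∧ y' j ∉ maximalIdeal (R j.1) ^ 2 := fun j => by
      haveI := hloc j
      refine ⟨fun hu => (mem_maximalIdeal _).1 hxm (hy' j ▸ hu.map (φ j)), fun h => hx2 ?_⟩
      rw [← hy' j]
      refine Ideal.pow_right_mono (map_maximalIdeal_le (φ j)) 2 ?_
      rw [← Ideal.map_pow]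
      exact Ideal.mem_map_of_mem _ h
    have hreg : IsSMulRegular L x := by
      rw [isSMulRegular_iff_right_eq_zero_of_smul]
      intro a ha
      obtain ⟨i, b, rfl⟩ := hsurj a
      obtain ⟨j, hij, h0j⟩ := directed_of (· ≤ ·) i i₀
      have h1 : φ j (y' ⟨j, h0j⟩ * f i j hij b) = 0 := by
        rw [map_mul, hy' ⟨j, h0j⟩, hφ]; exact ha
      obtain ⟨k, hjk, hk⟩ := hker j _ h1
      rw [map_mul, hf, hf] at hk
      haveI := Quotient.isDomain (R k)
      rcases mul_eq_zero.1 hk with h | h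
      · exact absurd ((show y' ⟨k, h0j.trans hjk⟩ = 0 from h) ▸ Ideal.zero_mem _) (hym ⟨k, h0j.trans hjk⟩).2
      · rw [← hφ i k (hij.trans hjk) b, h, map_zero]
    haveI : Nontrivial (L ⧸ Ideal.span {x}) := Ideal.Quotient.nontrivial_iff.2 (fun h =>
      (maximalIdeal.isMaximal L).ne_top (top_le_iff.1 (h ▸ (Ideal.span_singleton_le_iff_mem _).2 hxm)))
    haveI : IsLocalRing (L ⧸ Ideal.span {x}) :=
      IsLocalRing.of_surjective' (Ideal.Quotient.mk _) Ideal.Quotient.mk_surjective
    refine Quotient.of_quotient_singleton hxm hreg ?_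
    haveI : ∀ j : Set.Ici i₀, IsRegularLocalRing (R j ⧸ Ideal.span {y' j}) := fun j =>
      quotient_regular (hym j).1 (hym j).2
    haveI : IsDirectedOrder (Set.Ici i₀) := ⟨fun a b => by
      obtain ⟨c, hac, hbc⟩ := directed_of (· ≤ ·) a.1 b.1
      exact ⟨⟨c, a.2.trans hac⟩, hac, hbc⟩⟩
    refine ih (L ⧸ Ideal.span {x}) ⟨(s.erase x).image (Ideal.Quotient.mk _), ?_, ?_⟩
      (Set.Ici i₀) (fun j => R j ⧸ Ideal.span {y' j})
      (fun a b h => Ideal.quotientMap _ (f a b h) ((Ideal.span_singleton_le_iff_mem _).2 (by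
        rw [Ideal.mem_comap, show f a b h (y' a) = y' b from hf _ _ _ _ _ _]
        exact Ideal.mem_span_singleton_self _)))
      (fun a => Ideal.quotientMap _ (φ a) ((Ideal.span_singleton_le_iff_mem _).2 (by
        rw [Ideal.mem_comap, hy']
        exact Ideal.mem_span_singleton_self _))) ?_ ?_ ?_ ?_ ?_
    · refine Finset.card_image_le.trans ?_
      rw [Finset.card_erase_of_mem hxs]
      omega
    · rw [Finset.coe_image, ← Ideal.map_span]
      have h1 : maximalIdeal (L ⧸ Ideal.span {x}) = (maximalIdeal L).map (Ideal.Quotient.mk _) :=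
        ((IsLocalRing.eq_maximalIdeal (Ideal.IsMaximal.map_of_surjective_of_ker_le
          Ideal.Quotient.mk_surjective (by
            rw [Ideal.mk_ker, Ideal.span_singleton_le_iff_mem]; exact hxm)))).symm
      rw [h1, ← hsp, ← Finset.insert_erase hxs, Finset.coe_insert, Ideal.span_insert, Ideal.map_sup,
        Ideal.map_quotient_self, bot_sup_eq, Finset.erase_insert (Finset.notMem_erase x s)]
    · intro a
      haveI := hloc a
      refine ⟨fun z hz => ?_⟩
      obtain ⟨z, rfl⟩ := Ideal.Quotient.mk_surjective z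
      rw [Ideal.quotientMap_mk] at hz
      have hz' : IsUnit (φ a z) := by
        haveI : IsLocalHom (Ideal.Quotient.mk (Ideal.span {x})) :=
          IsLocalHom.of_surjective _ Ideal.Quotient.mk_surjective
        exact IsUnit.of_map _ _ hz
      exact (IsUnit.of_map _ _ hz').map _
    · intro a b h z
      obtain ⟨z, rfl⟩ := Ideal.Quotient.mk_surjective z
      simp only [Ideal.quotientMap_mk, hφ]
    · intro a b c h h' z
      obtain ⟨z, rfl⟩ := Ideal.Quotient.mk_surjective z
      simp only [Ideal.quotientMap_mk]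
      exact congrArg _ (hf _ _ _ _ _ z)
    · intro z
      obtain ⟨z, rfl⟩ := Ideal.Quotient.mk_surjective z
      obtain ⟨i, b, rfl⟩ := hsurj z
      obtain ⟨j, hij, h0j⟩ := directed_of (· ≤ ·) i i₀
      exact ⟨⟨j, h0j⟩, Ideal.Quotient.mk _ (f i j hij b), by rw [Ideal.quotientMap_mk, hφ]⟩
    · intro a z hz
      obtain ⟨z, rfl⟩ := Ideal.Quotient.mk_surjective z
      rw [Ideal.quotientMap_mk, Ideal.Quotient.eq_zero_iff_mem, Ideal.mem_span_singleton'] at hz
      obtain ⟨c, hc⟩ := hz
      obtain ⟨i, b, rfl⟩ := hsurj c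
      obtain ⟨j, hij, haj⟩ := directed_of (· ≤ ·) i a.1
      let J : Set.Ici i₀ := ⟨j, a.2.trans haj⟩
      have h1 : φ j (f a.1 j haj z - f i j hij b * y' J) = 0 := by
        rw [map_sub, map_mul, hφ, hφ, hy' J, hc, sub_self]
      obtain ⟨k, hjk, hk⟩ := hker j _ h1
      refine ⟨⟨k, (J.2).trans hjk⟩, haj.trans hjk, ?_⟩
      rw [Ideal.quotientMap_mk, Ideal.Quotient.eq_zero_iff_mem, Ideal.mem_span_singleton']
      rw [map_sub, sub_eq_zero, map_mul, hf, hf] at hk
      exact ⟨f i k (hij.trans hjk) b, by rw [hk]; exact congrArg _ (hf _ _ _ _ _ _).symm⟩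

end Groth.Agent.Lib.Regular.DirectLimit
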